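import Groth.Agent.FFLib.RR
import Groth.Agent.FFLib.ZetaCount
import Groth.Agent.FFLib.Rational

/-! Two quadratic rational subfields force genus at most one. -/

set_option linter.unusedSectionVars false
set_option linter.style.haveILetI false

namespace Groth.Agent.FFLib

open FunFld WithZero IntermediateField

variable {k K : Type*} [Field k] [Field K] [Algebra k K]

theorem rational_subfield_unique (hK : IsFunctionField k K) (hg : 2 ≤ genus k K) (x x' : K)
    (hx : Module.finrank k⟮x⟯ K = 2) (hx' : Module.finrank k⟮x'⟯ K = 2) : k⟮x⟯ = k⟮x'⟯ := by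
  classical
  have htr : ∀ z : K, Module.finrank k⟮z⟯ K = 2 → Transcendental k z := fun z hz halg => by
    haveI : FiniteDimensional k⟮z⟯ K := Module.finite_of_finrank_eq_succ hz
    haveI := IntermediateField.adjoin.finiteDimensional halg.isIntegral
    haveI : FiniteDimensional k K := FiniteDimensional.trans k k⟮z⟯ K
    obtain ⟨w, hw, -⟩ := hK.1
    exact hw (Algebra.IsAlgebraic.isAlgebraic w)
  have hxt := htr x hx
  have hx't := htr x' hx'
  haveI : FiniteDimensional k⟮x⟯ K := Module.finite_of_finrank_eq_succ hx
  haveI : FiniteDimensional k⟮x'⟯ K := Module.finite_of_finrank_eq_succ hx'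
  by_contra hne
  have hnot : x' ∉ k⟮x⟯ := fun h => by
    have hle : k⟮x'⟯ ≤ k⟮x⟯ := adjoin_simple_le_iff.mpr h
    exact hne (IntermediateField.eq_of_le_of_finrank_eq' hle (by rw [hx, hx'])).symm
  have hli : LinearIndependent k⟮x⟯ ![(1 : K), x'] := by
    rw [LinearIndependent.pair_iff' one_ne_zero]
    intro a ha
    rw [IntermediateField.smul_def, smul_eq_mul, mul_one] at ha
    exact hnot (ha ▸ a.2)
  set g := genus k K
  let n := g
  set D : Divisor k K := (n : ℤ) • poles x + poles x'
  let φ : Fin (n + 1) × Fin 2 → K := fun p => x ^ (p.1 : ℕ) * ![(1 : K), x'] p.2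
  have hind : LinearIndependent k φ := by
    have h1 : LinearIndependent k fun i : Fin (n + 1) => (IntermediateField.AdjoinSimple.gen k x) ^ (i : ℕ) := by
      refine LinearIndependent.of_comp k⟮x⟯.val.toLinearMap ?_
      exact (linearIndependent_powers hxt).comp _ Fin.val_injective
    have := linearIndependent_smul h1 hli
    exact this
  have hmem : ∀ p, φ p ∈ L D := by
    rintro ⟨i, j⟩ P
    simp only [φ, D]
    rw [map_mul, map_pow, Finsupp.add_apply, exp_add, Finsupp.smul_apply, smul_eq_mul]
    refine mul_le_mul' ((pow_le_pow_left' (val_le_exp_poles hK.1 x P) _).trans ?_) ?_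
    · rw [← exp_nsmul, exp_le_exp, nsmul_eq_mul]
      exact mul_le_mul_of_nonneg_right (by exact_mod_cast (Nat.lt_succ_iff.mp i.2)) (poles_nonneg x P)
    · fin_cases j
      · simp only [Fin.zero_eta, Matrix.cons_val_zero, map_one]
        rw [← exp_zero, exp_le_exp]
        exact poles_nonneg x' P
      · simpa using val_le_exp_poles hK.1 x' P
  have hdeg : D.deg = 2 * n + 2 := by
    rw [Divisor.deg_add, show ((n : ℤ) • poles x : Divisor k K).deg = n * (poles x : Divisor k K).deg from
      map_zsmul (degHom k K) _ _, deg_poles hK.1 hxt, deg_poles hK.1 hx't, hx, hx']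
    push_cast; ring
  haveI := L_finite hK.1 D
  have hle : 2 * (n + 1) ≤ ell D := by
    have h1 : LinearIndependent k fun p => (⟨φ p, hmem p⟩ : L D) :=
      LinearIndependent.of_comp (L D).subtype hind
    simpa [Fintype.card_prod, ell, mul_comm] using h1.fintype_card_le_finrank
  have hell := ell_of_deg_gt hK (D := D) (by rw [hdeg]; push_cast; omega)
  rw [hdeg] at hell
  omega

end Groth.Agent.FFLib
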