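import Groth.Agent.FFLib.Quad.Genus

/-! Local criteria for `y² = u` and `y² + y = f`. -/

set_option linter.unusedSectionVars false
set_option linter.style.haveILetI false

namespace Groth.Agent.FFLib

open FunFld WithZero

variable {k F K : Type*} [Field k] [Field F] [Algebra k F] [Field K] [Algebra k K] [Algebra F K]
  [IsScalarTower k F K]

theorem le_exp_of_pow_le (Q : Place k K) {z : K} {e : ℕ} (he : 0 < e) {n : ℤ}
    (h : Q.1 z ^ e ≤ exp ((e : ℤ) * n)) : Q.1 z ≤ exp n := by
  rw [← nsmul_eq_mul, exp_nsmul] at h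
  exact (pow_le_pow_iff_left₀ zero_le zero_le he.ne').mp h

variable (hdeg : Module.finrank F K = 2) {y : K} (hy : y ∉ Set.range (algebraMap F K))

include hdeg hy

theorem quadLoc_sq (hF : IsFF k F) (h2 : (2 : k) ≠ 0) {u : F} (hu : y ^ 2 = algebraMap F K u) {B : Divisor k F}
    (hB : ∀ P : Place k F, B P = -(P.ord u / 2)) : QuadLoc k F K y B := by
  classical
  haveI : FiniteDimensional F K := Module.finite_of_finrank_eq_succ hdeg
  obtain ⟨σ, hσ⟩ := exists_conj_aut hdeg hy (r := 0) (u := u) (by rw [hu, map_zero, zero_mul, zero_add])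
  rw [map_zero, zero_sub] at hσ
  have hu0 : u ≠ 0 := fun e => hy ⟨0, by
    rw [e, map_zero] at hu
    rw [map_zero, eq_zero_of_pow_eq_zero hu]⟩
  have h2v : ∀ Q : Place k K, Q.1 (2 : K) = 1 := fun Q => by
    rw [← map_ofNat (algebraMap k K) 2]; exact val_algebraMap Q h2
  intro P a b n
  have key : ∀ (Q : Place k K) (e : ℕ), IsOverWith Q P e →
      (Q.1 (algebraMap F K b * y) ≤ exp ((e : ℤ) * n) ↔ P.1 b ≤ exp (n - B P)) := by
    intro Q e he
    have he1 := over_pos hF he
    rcases eq_or_ne b 0 with rfl | hb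
    · simp
    have hbu : b ^ 2 * u ≠ 0 := mul_ne_zero (pow_ne_zero 2 hb) hu0
    have hsq : Q.1 (algebraMap F K b * y) ^ 2 = P.1 (b ^ 2 * u) ^ e := by
      rw [← map_pow, mul_pow, hu, ← map_pow, ← map_mul, he]
    rw [← pow_le_pow_iff_left₀ zero_le zero_le two_ne_zero, hsq, ← exp_nsmul, nsmul_eq_mul,
      show ((2 : ℕ) : ℤ) * ((e : ℤ) * n) = (e : ℤ) * (2 * n) by push_cast; ring, ← nsmul_eq_mul, exp_nsmul,
      pow_le_pow_iff_left₀ zero_le zero_le (by omega), val_le_exp_iff P hbu, val_le_exp_iff P hb, hB,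
      ord_mul P (pow_ne_zero 2 hb) hu0, ord_pow]
    push_cast
    omega
  constructor
  · intro h
    have hconj : ∀ (Q : Place k K) (e : ℕ), IsOverWith Q P e →
        Q.1 (algebraMap F K a - algebraMap F K b * y) ≤ exp ((e : ℤ) * n) := fun Q e he => by
      have h1 : Q.1 (σ (algebraMap F K a + algebraMap F K b * y)) ≤ exp ((e : ℤ) * n) :=
        h _ e (isOverWith_placeComap σ he)
      rwa [map_add, map_mul, σ.commutes, σ.commutes, hσ, mul_neg, ← sub_eq_add_neg] at h1
    obtain ⟨Q, hQ⟩ := exists_isOver (K' := K) hF P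
    obtain ⟨e, he⟩ := hQ
    have he1 := over_pos hF he
    have ha : Q.1 (2 * algebraMap F K a) ≤ exp ((e : ℤ) * n) := by
      rw [show 2 * algebraMap F K a = (algebraMap F K a + algebraMap F K b * y) + (algebraMap F K a - algebraMap F K b * y) by ring]
      exact (Q.1.map_add _ _).trans (max_le (h Q e he) (hconj Q e he))
    have hby : Q.1 (2 * (algebraMap F K b * y)) ≤ exp ((e : ℤ) * n) := by
      rw [show 2 * (algebraMap F K b * y) = (algebraMap F K a + algebraMap F K b * y) - (algebraMap F K a - algebraMap F K b * y) by ring]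
      exact (Q.1.map_sub _ _).trans (max_le (h Q e he) (hconj Q e he))
    rw [map_mul, h2v, one_mul] at ha hby
    refine ⟨?_, (key Q e he).mp hby⟩
    rw [he, ← nsmul_eq_mul, exp_nsmul] at ha
    exact (pow_le_pow_iff_left₀ zero_le zero_le (by omega)).mp ha
  · rintro ⟨ha, hb⟩ Q e he
    refine (Q.1.map_add _ _).trans (max_le ?_ ((key Q e he).mpr hb))
    rw [he, ← nsmul_eq_mul, exp_nsmul]
    exact pow_le_pow_left' ha e

theorem quadLoc_as (hF : IsFF k F) (h2 : (2 : F) = 0) {f : F} (hf : y ^ 2 + y = algebraMap F K f)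
    (hodd : ∀ P : Place k F, P.ord f < 0 → Odd (P.ord f)) {B : Divisor k F}
    (hB : ∀ P : Place k F, B P = if P.ord f < 0 then (1 - P.ord f) / 2 else 0) : QuadLoc k F K y B := by
  classical
  haveI : FiniteDimensional F K := Module.finite_of_finrank_eq_succ hdeg
  have h2K : (2 : K) = 0 := by rw [← map_ofNat (algebraMap F K) 2, h2, map_zero]
  obtain ⟨σ, hσ⟩ := exists_conj_aut hdeg hy (r := -1) (u := f) (by rw [← hf, map_neg, map_one]; ring)
  have hσ' : σ y = y + 1 := by
    rw [hσ, map_neg, map_one]; linear_combination (-y - 1) * h2K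
  intro P a b n
  by_cases hP : P.ord f < 0
  · rw [hB, if_pos hP]
    obtain ⟨w, hw⟩ := hodd P hP
    have hy0 : y ≠ 0 := fun e => hy ⟨0, by rw [map_zero, e]⟩
    have key : ∀ (Q : Place k K) (e : ℕ), IsOverWith Q P e → e = 2 ∧ Q.ord y = P.ord f := by
      intro Q e he
      obtain ⟨he1, he2, -⟩ := quad_over hF hdeg he
      have hneg : Q.ord (algebraMap F K f) < 0 := by
        rw [ord_over he]; exact mul_neg_of_pos_of_neg (by omega) hP
      have h1 := ord_as hf hneg
      rw [ord_over he] at h1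
      interval_cases e
      · omega
      · exact ⟨rfl, by push_cast at h1; omega⟩
    have hval : ∀ (Q : Place k K) (e : ℕ), IsOverWith Q P e →
        (Q.1 (algebraMap F K a + algebraMap F K b * y) ≤ exp ((e : ℤ) * n) ↔
          P.1 a ≤ exp n ∧ P.1 b ≤ exp (n - (1 - P.ord f) / 2)) := by
      intro Q e he
      obtain ⟨rfl, hyo⟩ := key Q e he
      have hA : Q.1 (algebraMap F K a) ≤ exp (((2 : ℕ) : ℤ) * n) ↔ P.1 a ≤ exp n := by
        rw [he, ← nsmul_eq_mul, exp_nsmul, pow_le_pow_iff_left₀ zero_le zero_le two_ne_zero]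
      have hBy : Q.1 (algebraMap F K b * y) ≤ exp (((2 : ℕ) : ℤ) * n) ↔ P.1 b ≤ exp (n - (1 - P.ord f) / 2) := by
        rcases eq_or_ne b 0 with rfl | hb
        · simp
        have hb' : algebraMap F K b ≠ 0 := by simpa using hb
        rw [val_le_exp_iff Q (mul_ne_zero hb' hy0), val_le_exp_iff P hb, ord_mul Q hb' hy0, ord_over he, hyo]
        push_cast
        omega
      rw [← hA, ← hBy]
      refine ⟨fun h => ?_, fun h => (Q.1.map_add _ _).trans (max_le h.1 h.2)⟩
      rcases eq_or_ne a 0 with rfl | ha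
      · simp only [map_zero, zero_add] at h ⊢; exact ⟨zero_le, h⟩
      rcases eq_or_ne b 0 with rfl | hb
      · simp only [map_zero, zero_mul, add_zero] at h ⊢; exact ⟨h, zero_le⟩
      have ha' : algebraMap F K a ≠ 0 := by simpa using ha
      have hb' : algebraMap F K b ≠ 0 := by simpa using hb
      have hne : Q.1 (algebraMap F K a) ≠ Q.1 (algebraMap F K b * y) := fun e => by
        rw [val_eq_exp Q ha', val_eq_exp Q (mul_ne_zero hb' hy0), exp_inj, ord_mul Q hb' hy0, ord_over he, ord_over he, hyo] at e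
        omega
      rw [Valuation.map_add_of_distinct_val _ hne, max_le_iff] at h
      exact h
    refine ⟨fun h => ?_, fun h Q e he => (hval Q e he).mpr h⟩
    obtain ⟨Q, e, he⟩ := exists_isOver (K' := K) hF P
    exact (hval Q e he).mp (h Q e he)
  · rw [hB, if_neg hP, sub_zero]
    have hyint : ∀ (Q : Place k K) (e : ℕ), IsOverWith Q P e → Q.1 y ≤ 1 := by
      intro Q e he
      by_contra hgt
      rw [not_le] at hgt
      have hlt : Q.1 y < Q.1 (y ^ 2) := by rw [map_pow]; exact lt_self_pow₀ hgt (by norm_num)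
      have h3 := Q.1.map_add_eq_of_lt_left hlt
      rw [hf, he f] at h3
      have hf1 : P.1 f ≤ 1 := by
        rcases eq_or_ne f 0 with rfl | h0
        · simp
        · exact (val_le_one_iff P h0).mpr (not_lt.mp hP)
      exact ((hgt.trans hlt).trans_eq h3.symm).not_ge (pow_le_one' hf1 e)
    constructor
    · intro h
      have hb : P.1 b ≤ exp n := by
        obtain ⟨Q, e, he⟩ := exists_isOver (K' := K) hF P
        have h1 : Q.1 (σ (algebraMap F K a + algebraMap F K b * y)) ≤ exp ((e : ℤ) * n) :=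
          h _ e (isOverWith_placeComap σ he)
        rw [map_add, map_mul, σ.commutes, σ.commutes, hσ'] at h1
        have h2' : Q.1 (algebraMap F K b) ≤ exp ((e : ℤ) * n) := by
          rw [show algebraMap F K b = (algebraMap F K a + algebraMap F K b * (y + 1)) - (algebraMap F K a + algebraMap F K b * y) by ring]
          exact (Q.1.map_sub _ _).trans (max_le h1 (h Q e he))
        rw [he, ← nsmul_eq_mul, exp_nsmul] at h2'
        exact (pow_le_pow_iff_left₀ zero_le zero_le (by have := over_pos hF he; omega)).mp h2'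
      refine ⟨?_, hb⟩
      obtain ⟨Q, e, he⟩ := exists_isOver (K' := K) hF P
      have h2' : Q.1 (algebraMap F K a) ≤ exp ((e : ℤ) * n) := by
        rw [show algebraMap F K a = (algebraMap F K a + algebraMap F K b * y) - algebraMap F K b * y by ring]
        refine (Q.1.map_sub _ _).trans (max_le (h Q e he) ?_)
        rw [map_mul, he, ← nsmul_eq_mul, exp_nsmul]
        exact (mul_le_of_le_one_right' (hyint Q e he)).trans (pow_le_pow_left' hb e)
      rw [he, ← nsmul_eq_mul, exp_nsmul] at h2'
      exact (pow_le_pow_iff_left₀ zero_le zero_le (by have := over_pos hF he; omega)).mp h2'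
    · rintro ⟨ha, hb⟩ Q e he
      refine (Q.1.map_add _ _).trans (max_le ?_ ?_)
      · rw [he, ← nsmul_eq_mul, exp_nsmul]; exact pow_le_pow_left' ha e
      · rw [map_mul, he, ← nsmul_eq_mul, exp_nsmul]
        exact (mul_le_of_le_one_right' (hyint Q e he)).trans (pow_le_pow_left' hb e)

end Groth.Agent.FFLib
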