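import Groth.Agent.FFLib.Diff.Basic
import Groth.Agent.FFLib.Quad.Local

/-! Orders of differentials of elements of order prime to the characteristic. -/

set_option linter.unusedSectionVars false
set_option linter.style.haveILetI false

namespace Groth.Agent.FFLib

open FunFld WithZero

variable {k K F : Type*} [Field k] [Field K] [Algebra k K] [Field F] [Algebra k F] {P : Place k K}
  {φ : K →ₐ[k] LaurentSeries F}

/-- An element of order `m` with `m` invertible has differential of order `m - 1`. -/
theorem vDiff_of_ord (hφ : LocRes.IsExpansionAt P.1 φ) {x : K} (hx : x ≠ 0) (hm : ((P.ord x : ℤ) : F) ≠ 0) :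
    LocRes.vDiff φ 1 x = exp (-(P.ord x - 1)) := by
  rw [vDiff_one]
  set z := φ x with hz
  set m := P.ord x with hmdef
  have hv : Valued.v z = exp (-m) := by rw [hz, hφ.1, val_eq_exp P hx]
  have hlow : Low z m := (low_iff_val _ _).mpr hv.le
  have hc : z.coeff m ≠ 0 := fun h0 => by
    have h' : Valued.v z ≤ exp (-(m + 1)) := (low_iff_val _ _).mp fun i hi => by
      rcases eq_or_lt_of_le (Int.lt_add_one_iff.mp hi) with rfl | hlt
      · exact h0
      · exact hlow i hlt
    rw [hv, exp_le_exp] at h'
    omega
  have hdlow : Valued.v (LocRes.D F z) ≤ exp (-(m - 1)) := (low_iff_val _ _).mp hlow.deriv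
  refine le_antisymm hdlow (not_lt.mp fun hlt => ?_)
  have hge : Valued.v (LocRes.D F z) ≤ exp (-m) := by
    refine (low_iff_val _ _).mp fun i hi => ?_
    rcases eq_or_ne (LocRes.D F z) 0 with h0 | h0
    · simp [h0]
    · have hv0 : Valued.v (LocRes.D F z) ≠ 0 := (map_ne_zero _).mpr h0
      have hlt' : Valued.v (LocRes.D F z) ≤ exp (-m) := by
        rw [← exp_log hv0, exp_lt_exp] at hlt
        rw [← exp_log hv0, exp_le_exp]; omega
      exact (low_iff_val _ _).mpr hlt' i hi
  have := (low_iff_val _ _).mpr hge (m - 1) (by omega)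
  rw [LocRes.D_coeff, sub_add_cancel, zsmul_eq_mul] at this
  exact mul_ne_zero hm hc this

/-- The differential of a root of `y² + y = c` in characteristic two. -/
theorem vDiff_as (h2 : (2 : F) = 0) {y c : K} (h : y ^ 2 + y = c) :
    LocRes.vDiff φ 1 c = LocRes.vDiff φ 1 y := by
  rw [vDiff_one, vDiff_one, ← h, map_add, map_pow, map_add, sq, Derivation.leibniz, smul_eq_mul]
  congr 1
  have h2L : (2 : LaurentSeries F) = 0 := by
    rw [← map_ofNat (HahnSeries.C : F →+* LaurentSeries F) 2, h2, map_zero]
  linear_combination (φ y * LocRes.D F (φ y)) * h2L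

end Groth.Agent.FFLib
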