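import Groth.Agent.FFLib.Quad.Rat
import Groth.Agent.FFLib.Quad.Deriv
import Groth.Agent.FFLib.Res.Regular
import Groth.Agent.FFLib.Diff.Geom

/-! Regular differentials on quadratic extensions of the rational function field. -/

set_option linter.unusedSectionVars false
set_option linter.style.haveILetI false

namespace Groth.Agent.FFLib

open FunFld WithZero IntermediateField Polynomial

universe u v w

variable {k : Type u} [Field k] {K : Type v} [Field K] [Algebra k K] [Algebra (RatFunc k) K]
  [IsScalarTower k (RatFunc k) K]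

theorem ratPoly_eq_aeval (p : Polynomial k) :
    algebraMap (RatFunc k) K (algebraMap (Polynomial k) (RatFunc k) p) =
      Polynomial.aeval (algebraMap (RatFunc k) K RatFunc.X) p := by
  rw [Polynomial.aeval_algebraMap_apply, ← RatFunc.algebraMap_X, Polynomial.aeval_algebraMap_apply,
    Polynomial.aeval_X_left_apply]

theorem ratX_transcendental : Transcendental k (algebraMap (RatFunc k) K RatFunc.X) :=
  (transcendental_algebraMap_iff (algebraMap (RatFunc k) K).injective).mpr RatFunc.transcendental_X

theorem ratX_separable [Algebra.IsSeparable (RatFunc k) K] :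
    Algebra.IsSeparable k⟮algebraMap (RatFunc k) K RatFunc.X⟯ K := by
  refine Algebra.IsSeparable.of_equiv_equiv
    (RatFunc.algEquivOfTranscendental _ (ratX_transcendental (K := K))).toRingEquiv (RingEquiv.refl K) ?_
  refine IsLocalization.ringHom_ext (nonZeroDivisors (Polynomial k)) ?_
  refine Polynomial.ringHom_ext (fun c => ?_) ?_
  · simp [← IsScalarTower.algebraMap_apply k (RatFunc k) K, ← RatFunc.algebraMap_eq_C]
  · simp [RatFunc.algebraMap_X]

theorem ratX_geometric (hK : IsFunctionField k K) [Algebra.IsSeparable (RatFunc k) K] :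
    IsGeometric k K ∧ KaehlerDifferential.D k K (algebraMap (RatFunc k) K RatFunc.X) ≠ 0 :=
  ⟨isGeometric_of_separating hK ratX_transcendental ratX_separable,
    D_ne_zero hK ratX_transcendental ratX_separable⟩

theorem quad_separable (hdeg : Module.finrank (RatFunc k) K = 2) (h2 : (2 : k) ≠ 0) :
    Algebra.IsSeparable (RatFunc k) K := by
  haveI : FiniteDimensional (RatFunc k) K := Module.finite_of_finrank_eq_succ hdeg
  refine ⟨fun z => ?_⟩
  have hint : IsIntegral (RatFunc k) z := IsIntegral.of_finite _ z
  have hle : (minpoly (RatFunc k) z).natDegree ≤ 2 := (minpoly.natDegree_le z).trans_eq hdeg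
  have hpos := minpoly.natDegree_pos hint
  refine (Polynomial.separable_iff_derivative_ne_zero (minpoly.irreducible hint)).mpr fun h => ?_
  have hc := congrArg (fun p => Polynomial.coeff p ((minpoly (RatFunc k) z).natDegree - 1)) h
  simp only [Polynomial.coeff_derivative, Polynomial.coeff_zero,
    Nat.sub_add_cancel hpos, Polynomial.coeff_natDegree, (minpoly.monic hint).leadingCoeff, one_mul] at hc
  have h2F : (2 : RatFunc k) ≠ 0 := by
    rw [← map_ofNat (algebraMap k (RatFunc k)) 2]; simpa using h2
  rcases (show (minpoly (RatFunc k) z).natDegree = 1 ∨ (minpoly (RatFunc k) z).natDegree = 2 by omega) with e | e <;>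
    rw [e] at hc <;> norm_num at hc
  exact h2F hc

section Expansion

variable {P : Place k K} {F : Type w} [Field F] [Algebra k F] {φ : K →ₐ[k] LaurentSeries F}

theorem vDiff_mul (hφ : LocRes.IsExpansionAt P.1 φ) (u v : K) :
    LocRes.vDiff φ u v = P.1 u * LocRes.vDiff φ 1 v := by
  rw [vDiff_one, LocRes.vDiff, map_mul, hφ.1]

theorem vDiff_le_succ (hφ : LocRes.IsExpansionAt P.1 φ) {x : K} {n : ℤ} (h : P.1 x ≤ exp n) :
    LocRes.vDiff φ 1 x ≤ exp (n + 1) := by
  have hlow : Low (φ x) (-n) := (low_iff_val _ _).mpr (by rw [neg_neg, hφ.1]; exact h)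
  rw [vDiff_one, show n + 1 = -(-n - 1) by ring]
  exact (low_iff_val _ _).mp hlow.deriv

theorem vDiff_le_one (hφ : LocRes.IsExpansionAt P.1 φ) {x : K} (h : P.1 x ≤ 1) :
    LocRes.vDiff φ 1 x ≤ 1 := by
  have hlow : Low (φ x) 0 := (low_iff_val _ _).mpr (by rw [neg_zero, exp_zero, hφ.1]; exact h)
  rw [vDiff_one, ← exp_zero, ← neg_zero]
  refine (low_iff_val _ 0).mp fun i hi => ?_
  rw [LocRes.D_coeff]
  rcases eq_or_lt_of_le (show i ≤ -1 by omega) with rfl | hlt
  · simp
  · rw [hlow _ (by omega), smul_zero]

/-- The chain rule for polynomials. -/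
theorem D_exp_aeval (φ : K →ₐ[k] LaurentSeries F) (x : K) (p : Polynomial k) :
    LocRes.D F (φ (Polynomial.aeval x p)) =
      φ (Polynomial.aeval x (derivative p)) * LocRes.D F (φ x) := by
  induction p using Polynomial.induction_on with
  | C a =>
    rw [derivative_C, map_zero, map_zero, zero_mul, aeval_C]
    exact dExp_const φ a
  | add p q hp hq => simp only [map_add, hp, hq, add_mul]
  | monomial n a ih =>
    have e : (C a : Polynomial k) * X ^ (n + 1) = C a * X ^ n * X := by ring
    rw [e]
    conv_rhs => rw [derivative_mul, derivative_X, mul_one]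
    rw [map_mul (Polynomial.aeval x), map_mul φ, Derivation.leibniz, aeval_X, ih,
      smul_eq_mul, smul_eq_mul, map_add (Polynomial.aeval x), map_add φ,
      map_mul (Polynomial.aeval x) (derivative _) X, map_mul φ, aeval_X]
    ring

end Expansion

/-- Regular differentials are spanned by any independent family of `genus` of them. -/
theorem regular_in_range (hK : IsFunctionField k K) (hg : IsGeometric k K) {F : Place k K → Type w}
    [∀ P, Field (F P)] [∀ P, Algebra k (F P)] [∀ P, FiniteDimensional k (F P)]
    {φ : ∀ P, K →ₐ[k] LaurentSeries (F P)} (hφ : ∀ P, LocRes.IsExpansionAt P.1 (φ P))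
    {x : K} (hx : KaehlerDifferential.D k K x ≠ 0) {M : Type*} [AddCommGroup M] [Module k M]
    [FiniteDimensional k M] (Φ : M →ₗ[k] K) (hinj : Function.Injective Φ)
    (hdim : Module.finrank k M = genus k K) (hreg : ∀ m P, LocRes.vDiff (φ P) (Φ m) x ≤ 1) {z : K}
    (hz : ∀ P, LocRes.vDiff (φ P) z x ≤ 1) : ∃ m, z = Φ m := by
  obtain ⟨C, hC, -, hset⟩ := exists_canonical_of_D_ne hK hg F φ hφ hx
  have h0 := Set.ext_iff.mp (hset 0)
  simp only [Set.mem_ofPred_eq, Finsupp.coe_zero, Pi.zero_apply, neg_zero, exp_zero, sub_zero,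
    SetLike.mem_coe] at h0
  haveI := L_finite hK.1 C
  let g : M →ₗ[k] L C := Φ.codRestrict (L C) fun m => (h0 _).mp (hreg m)
  have hg' : Function.Injective g := fun a b h => hinj (congrArg Subtype.val h)
  have hs := (LinearMap.injective_iff_surjective_of_finrank_eq_finrank
    (hdim.trans (ell_canonical hK hC).symm)).mp hg'
  obtain ⟨m, hm⟩ := hs ⟨z, (h0 z).mp hz⟩
  exact ⟨m, (congrArg Subtype.val hm).symm⟩

end Groth.Agent.FFLib
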