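import Groth.Agent.FFLib.Quad.FormsLocal

/-! Regular differentials of the quadratic extensions. -/

set_option linter.unusedSectionVars false
set_option linter.style.haveILetI false

namespace Groth.Agent.FFLib

open FunFld WithZero Polynomial

universe u v w

variable {k : Type u} [Field k] {K : Type v} [Field K] [Algebra k K] [Algebra (RatFunc k) K]
  [IsScalarTower k (RatFunc k) K]

local notation "ι" => algebraMap (Polynomial k) (RatFunc k)

/-- Regular differentials `a(x) w dx` with `deg a < g` are all of them. -/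
theorem regular_poly_basis (hK : IsFunctionField k K) [Algebra.IsSeparable (RatFunc k) K]
    {F : Place k K → Type w} [∀ P, Field (F P)] [∀ P, Algebra k (F P)] [∀ P, FiniteDimensional k (F P)]
    {φ : ∀ P, K →ₐ[k] LaurentSeries (F P)} (hφ : ∀ P, LocRes.IsExpansionAt P.1 (φ P)) {w : K} (hw : w ≠ 0)
    (hreg : ∀ a : Polynomial k, a.degree < (genus k K : WithBot ℕ) → ∀ P,
      LocRes.vDiff (φ P) (algebraMap (RatFunc k) K (ι a) * w) (algebraMap (RatFunc k) K RatFunc.X) ≤ 1)
    {z : K} (hz : ∀ P, LocRes.vDiff (φ P) z (algebraMap (RatFunc k) K RatFunc.X) ≤ 1) :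
    ∃ a : Polynomial k, a.degree < (genus k K : WithBot ℕ) ∧ z = algebraMap (RatFunc k) K (ι a) * w := by
  obtain ⟨hg, hD⟩ := ratX_geometric (k := k) hK
  let e := Polynomial.degreeLTEquiv k (genus k K)
  haveI : FiniteDimensional k (Polynomial.degreeLT k (genus k K)) := Module.Finite.equiv e.symm
  let Φ : Polynomial.degreeLT k (genus k K) →ₗ[k] K :=
    (LinearMap.mulRight k w).comp ((IsScalarTower.toAlgHom k (RatFunc k) K).toLinearMap.comp
      ((IsScalarTower.toAlgHom k (Polynomial k) (RatFunc k)).toLinearMap.comp (Submodule.subtype _)))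
  have hΦ : ∀ a, Φ a = algebraMap (RatFunc k) K (ι (a : Polynomial k)) * w := fun a => rfl
  have hinj : Function.Injective Φ := fun a b h => Subtype.ext (RatFunc.algebraMap_injective k
    ((algebraMap (RatFunc k) K).injective (mul_right_cancel₀ hw h)))
  obtain ⟨a, ha⟩ := regular_in_range hK hg hφ hD Φ hinj
    (by rw [e.finrank_eq, Module.finrank_fin_fun])
    (fun a P => by rw [hΦ]; exact hreg a.1 (Polynomial.mem_degreeLT.mp a.2) P) hz
  exact ⟨a.1, Polynomial.mem_degreeLT.mp a.2, ha⟩

variable [CharP k 2] [PerfectField k] (hdeg : Module.finrank (RatFunc k) K = 2) {y : K} {f : RatFunc k}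
  (heq : y ^ 2 + y = algebraMap (RatFunc k) K f) (hodd : ∀ P : Place k (RatFunc k), P.ord f < 0 → Odd (P.ord f))

include hdeg heq hodd

/-- `z(x) dx` is regular as soon as `(z)` is bounded by the pole data of `f`. -/
theorem as_regular {z : RatFunc k}
    (hz : ∀ P : Place k (RatFunc k), P.1 z ≤ exp ((if P.ord f < 0 then (1 - P.ord f) / 2 else 0) -
      (if P.ord (RatFunc.X : RatFunc k) < 0 then 2 else 0)))
    (Q : Place k K) {F : Type w} [Field F] [Algebra k F] {φ : K →ₐ[k] LaurentSeries F}
    (hφ : LocRes.IsExpansionAt Q.1 φ) :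
    LocRes.vDiff φ (algebraMap (RatFunc k) K z) (algebraMap (RatFunc k) K RatFunc.X) ≤ 1 := by
  classical
  have hF := isFF_ratFunc k
  haveI : FiniteDimensional (RatFunc k) K := Module.finite_of_finrank_eq_succ hdeg
  obtain ⟨P, e, -, he⟩ := exists_over hF Q
  obtain ⟨he1, he2, -⟩ := quad_over hF hdeg he
  have hzP := hz P
  rw [vDiff_mul hφ, he]
  by_cases hneg : P.ord f < 0
  · obtain ⟨rfl, hv⟩ := vDiff_dx_as hdeg heq he hneg (hodd P hneg) hφ
    rw [if_pos hneg] at hzP
    obtain ⟨j, hj⟩ := hodd P hneg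
    by_cases hX : P.ord (RatFunc.X : RatFunc k) < 0
    · rw [if_pos hX] at hzP
      rw [ratDeriv_val_infty P hX hneg (hodd P hneg), ← exp_nsmul] at hv
      have hv' := (eq_div_iff exp_ne_zero).mpr hv
      rw [hv', ← exp_sub]
      refine le_of_le_of_eq ?_ exp_zero
      refine (mul_le_mul' (pow_le_pow_left' hzP 2) le_rfl).trans ?_
      rw [← exp_nsmul, ← exp_add, exp_le_exp]
      simp only [nsmul_eq_mul]; push_cast; omega
    · rw [if_neg hX] at hzP
      have hX1 : P.1 (RatFunc.X : RatFunc k) ≤ 1 := (val_le_one_iff P RatFunc.X_ne_zero).mpr (not_lt.mp hX)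
      rw [ratDeriv_val_finite P hX1 hneg (hodd P hneg), ← exp_nsmul] at hv
      have hv' := (eq_div_iff exp_ne_zero).mpr hv
      rw [hv', ← exp_sub]
      refine le_of_le_of_eq ?_ exp_zero
      refine (mul_le_mul' (pow_le_pow_left' hzP 2) le_rfl).trans ?_
      rw [← exp_nsmul, ← exp_add, exp_le_exp]
      simp only [nsmul_eq_mul]; push_cast; omega
  · rw [if_neg hneg] at hzP
    by_cases hX : P.ord (RatFunc.X : RatFunc k) < 0
    · rw [if_pos hX] at hzP
      have hx : Q.1 (algebraMap (RatFunc k) K RatFunc.X) ≤ exp (e : ℤ) := by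
        rw [he, val_eq_exp P RatFunc.X_ne_zero, (ratFunc_infinity P hX).1, ← exp_nsmul, exp_le_exp]
        simp
      refine (mul_le_mul' (pow_le_pow_left' hzP e) (vDiff_le_succ hφ hx)).trans ?_
      rw [← exp_nsmul, ← exp_add]
      refine le_of_le_of_eq ?_ exp_zero
      rw [exp_le_exp]
      simp only [nsmul_eq_mul]; omega
    · rw [if_neg hX, sub_zero, exp_zero] at hzP
      refine mul_le_one' (pow_le_one' hzP e) (vDiff_le_one hφ ?_)
      rw [he]
      exact pow_le_one' ((val_le_one_iff P RatFunc.X_ne_zero).mpr (not_lt.mp hX)) e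

variable (hy : y ∉ Set.range (algebraMap (RatFunc k) K)) {q : Polynomial k} (hq0 : q ≠ 0)
  (hq : ∀ P : Place k (RatFunc k), 0 ≤ P.ord (RatFunc.X : RatFunc k) →
    P.ord (algebraMap (Polynomial k) (RatFunc k) q) = if P.ord f < 0 then (1 - P.ord f) / 2 else 0)

include hy hq0 hq

/-- The genus read on `q`. -/
theorem as_genus (hK : IsFunctionField k K) {P : Place k (RatFunc k)}
    (hP : P.ord (RatFunc.X : RatFunc k) < 0) :
    (genus k K : ℤ) = q.natDegree + (if P.ord f < 0 then (1 - P.ord f) / 2 else 0) - 1 := by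
  classical
  obtain ⟨hPX, hPd, hPo⟩ := ratFunc_infinity P hP
  have hF := isFF_ratFunc k
  set d : ℤ := if P.ord f < 0 then (1 - P.ord f) / 2 else 0
  let B : Divisor k (RatFunc k) := FunFld.div k (ι q) + Finsupp.single P ((q.natDegree : ℤ) + d)
  have hB : ∀ R : Place k (RatFunc k), B R = if R.ord f < 0 then (1 - R.ord f) / 2 else 0 := by
    intro R
    show (FunFld.div k (ι q) + Finsupp.single P ((q.natDegree : ℤ) + d)) R = _
    rw [Finsupp.add_apply, div_apply hF]
    rcases eq_or_ne R P with rfl | hR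
    · rw [Finsupp.single_eq_same, hPo q hq0]; ring
    · rw [Finsupp.single_eq_of_ne hR, add_zero, hq R]
      by_contra hlt
      obtain ⟨P', h1, -, h3⟩ := exists_infinity k
      have e1 : R = P' := by by_contra h; exact hlt (h3 R h)
      have e2 : P = P' := by by_contra h; have := h3 P h; omega
      exact hR (e1.trans e2.symm)
  have h2 : (2 : RatFunc k) = 0 := by
    rw [← map_ofNat (algebraMap k (RatFunc k)) 2, CharTwo.two_eq_zero, map_zero]
  have hloc := quadLoc_as hdeg hy hF h2 heq hodd hB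
  have hdB : B.deg = (q.natDegree : ℤ) + d := by
    show (FunFld.div k (ι q) + Finsupp.single P ((q.natDegree : ℤ) + d)).deg = _
    rw [Divisor.deg_add, deg_div hF (ι q), Divisor.deg_single, hPd]
    ring
  rw [quad_genus hdeg hy hloc (isFunctionField_ratFunc k) hK, genus_ratFunc, hdB]
  push_cast; ring

/-- `a(x) dx / q(x)` is regular for `deg a < g`. -/
theorem as_regular_poly (hK : IsFunctionField k K) {a : Polynomial k}
    (ha : a.degree < (genus k K : WithBot ℕ)) (P : Place k (RatFunc k)) :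
    P.1 (ι a / ι q) ≤ exp ((if P.ord f < 0 then (1 - P.ord f) / 2 else 0) -
      (if P.ord (RatFunc.X : RatFunc k) < 0 then 2 else 0)) := by
  rcases eq_or_ne a 0 with rfl | ha0
  · simp
  have hq' : ι q ≠ 0 := by simpa using hq0
  have ha' : ι a ≠ 0 := by simpa using ha0
  rw [val_le_exp_iff P (div_ne_zero ha' hq'), div_eq_mul_inv, ord_mul P ha' (inv_ne_zero hq'), ord_inv]
  by_cases hX : P.ord (RatFunc.X : RatFunc k) < 0
  · have hg := as_genus hdeg heq hodd hy hq0 hq hK hX
    obtain ⟨-, -, hPo⟩ := ratFunc_infinity P hX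
    rw [hPo a ha0, hPo q hq0, if_pos hX]
    have h1 : a.natDegree < genus k K := (Polynomial.natDegree_lt_iff_degree_lt ha0).mpr ha
    split_ifs at hg ⊢ <;> omega
  · rw [hq P (not_lt.mp hX), if_neg hX]
    have h1 := (val_le_one_iff P ha').mp
      (ratPoly_le_one P ((val_le_one_iff P RatFunc.X_ne_zero).mpr (not_lt.mp hX)) a)
    split_ifs <;> omega

end Groth.Agent.FFLib
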