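import Groth.Agent.FFLib.Quad.Forms

/-! Orders of `dx` on quadratic extensions of the rational function field. -/

set_option linter.unusedSectionVars false
set_option linter.style.haveILetI false

namespace Groth.Agent.FFLib

open FunFld WithZero Polynomial

universe u v w

variable {k : Type u} [Field k]

local notation "ι" => algebraMap (Polynomial k) (RatFunc k)

theorem ratPoly_le_one (P : Place k (RatFunc k)) (hX : P.1 (RatFunc.X : RatFunc k) ≤ 1) (p : Polynomial k) :
    P.1 (ι p) ≤ 1 := by
  have h := val_aeval_le_one' P hX p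
  rwa [← RatFunc.algebraMap_X, Polynomial.aeval_algebraMap_apply, Polynomial.aeval_X_left_apply] at h

/-- At a finite place a prime polynomial is a uniformizer. -/
theorem exists_unif_poly (P : Place k (RatFunc k)) (hX : P.1 (RatFunc.X : RatFunc k) ≤ 1) :
    ∃ π : Polynomial k, Irreducible π ∧ P.1 (ι π) = exp (-1 : ℤ) ∧ ∀ q, ¬ π ∣ q → P.1 (ι q) = 1 := by
  classical
  have hX0 : 0 ≤ P.ord (RatFunc.X : RatFunc k) := (val_le_one_iff P RatFunc.X_ne_zero).mp hX
  obtain ⟨t, ht0, ht⟩ := exists_unif P
  have ht1 : P.1 t < 1 := by rw [ht, ← exp_zero, exp_lt_exp]; omega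
  have hn : P.1 (ι t.num) < 1 := by
    have e : ι t.num = t * ι t.denom := by
      conv_lhs => rw [← div_mul_cancel₀ (ι t.num)
        (show ι t.denom ≠ 0 by simpa using RatFunc.denom_ne_zero t)]
      rw [RatFunc.num_div_denom]
    rw [e, map_mul]
    exact (mul_le_mul' le_rfl (ratPoly_le_one P hX _)).trans_lt (by rwa [mul_one])
  have hn0 : t.num ≠ 0 := RatFunc.num_ne_zero ht0
  obtain ⟨π, hπn, hπ⟩ : ∃ π, π ∣ t.num ∧ Irreducible π ∧ P.1 (ι π) < 1 := by
    by_contra! hcon
    obtain ⟨c, hc⟩ := UniqueFactorizationMonoid.factors_prod hn0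
    have h1 : P.1 (ι (UniqueFactorizationMonoid.factors t.num).prod) = 1 := by
      rw [map_multiset_prod, map_multiset_prod]
      refine Multiset.prod_eq_one fun z hz => ?_
      simp only [Multiset.map_map, Multiset.mem_map, Function.comp_apply] at hz
      obtain ⟨q, hq, rfl⟩ := hz
      exact le_antisymm (ratPoly_le_one P hX q) (hcon q (UniqueFactorizationMonoid.dvd_of_mem_factors hq)
        (UniqueFactorizationMonoid.irreducible_of_factor q hq))
    have hc1 : P.1 (ι (c : Polynomial k)) = 1 := by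
      refine le_antisymm (ratPoly_le_one P hX _) (not_lt.mp fun hlt => ?_)
      have h2 : P.1 (ι ((c : Polynomial k) * ↑c⁻¹)) < 1 := by
        rw [map_mul, map_mul]
        exact (mul_le_mul' le_rfl (ratPoly_le_one P hX _)).trans_lt (by rwa [mul_one])
      simp at h2
    rw [← hc, map_mul, map_mul, h1, hc1, one_mul] at hn
    exact lt_irrefl _ hn
  refine ⟨π, hπ.1, ?_, fun q hq => ?_⟩
  · have hι0 : ι π ≠ 0 := by simpa using hπ.1.ne_zero
    rcases ratFunc_squarefree P hX0 hπ.1.squarefree with h | h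
    · exact absurd hπ.2 (not_lt.mpr (by rw [val_eq_exp P hι0, h, neg_zero, exp_zero]))
    · rw [val_eq_exp P hι0, h]
  · refine le_antisymm (ratPoly_le_one P hX q) (not_lt.mp fun hlt => ?_)
    obtain ⟨a, b, hab⟩ := (hπ.1.coprime_iff_not_dvd.mpr hq)
    have h1 : P.1 (ι (a * π + b * q)) < 1 := by
      rw [map_add, map_mul, map_mul]
      refine (P.1.map_add _ _).trans_lt (max_lt ?_ ?_) <;> rw [map_mul]
      · exact (mul_le_mul' (ratPoly_le_one P hX a) le_rfl).trans_lt (by rw [one_mul]; exact hπ.2)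
      · exact (mul_le_mul' (ratPoly_le_one P hX b) le_rfl).trans_lt (by rwa [one_mul])
    simp [hab] at h1

/-- The derivative of a rational function. -/
noncomputable def ratDeriv (f : RatFunc k) : RatFunc k :=
  (ι (derivative f.num) - f * ι (derivative f.denom)) / ι f.denom

section

variable {K : Type v} [Field K] [Algebra k K] [Algebra (RatFunc k) K] [IsScalarTower k (RatFunc k) K]

theorem D_exp_ratFunc {F : Type w} [Field F] [Algebra k F] (φ : K →ₐ[k] LaurentSeries F) (f : RatFunc k) :
    LocRes.D F (φ (algebraMap (RatFunc k) K f)) =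
      φ (algebraMap (RatFunc k) K (ratDeriv f)) * LocRes.D F (φ (algebraMap (RatFunc k) K RatFunc.X)) := by
  have hd : ι f.denom ≠ 0 := by simpa using RatFunc.denom_ne_zero f
  have h := congrArg (fun z => LocRes.D F (φ (algebraMap (RatFunc k) K z)))
    (show f * ι f.denom = ι f.num from ((div_eq_iff hd).mp (RatFunc.num_div_denom f)).symm)
  simp only [map_mul, Derivation.leibniz, smul_eq_mul] at h
  rw [ratPoly_eq_aeval, ratPoly_eq_aeval, D_exp_aeval, D_exp_aeval] at h
  have hne : φ (algebraMap (RatFunc k) K (ι f.denom)) ≠ 0 := by simpa using RatFunc.denom_ne_zero f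
  have key : φ (algebraMap (RatFunc k) K (ι f.denom)) * φ (algebraMap (RatFunc k) K (ratDeriv f)) =
      φ (algebraMap (RatFunc k) K (ι (derivative f.num))) -
        φ (algebraMap (RatFunc k) K f) * φ (algebraMap (RatFunc k) K (ι (derivative f.denom))) := by
    rw [← map_mul φ, ← map_mul, ratDeriv, mul_div_cancel₀ _ hd, map_sub, map_mul, map_sub φ, map_mul φ]
  refine mul_left_cancel₀ hne ?_
  rw [← mul_assoc, key, ratPoly_eq_aeval, ratPoly_eq_aeval, ratPoly_eq_aeval]
  linear_combination h

/-- `(dx)/y` has no pole at a finite place, for `y² = f(x)` with `f` squarefree. -/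
theorem vDiff_sqrt_le (hdeg : Module.finrank (RatFunc k) K = 2) (h2 : (2 : k) ≠ 0) {y : K} {f : Polynomial k}
    (hf : Squarefree f) (hy0 : y ≠ 0)
    (heq : y ^ 2 = algebraMap (RatFunc k) K (ι f)) {Q : Place k K}
    (hfin : Q.1 (algebraMap (RatFunc k) K RatFunc.X) ≤ 1) {F : Type w} [Field F] [Algebra k F]
    {φ : K →ₐ[k] LaurentSeries F} (hφ : LocRes.IsExpansionAt Q.1 φ) :
    LocRes.vDiff φ 1 (algebraMap (RatFunc k) K RatFunc.X) ≤ Q.1 y := by
  set x := algebraMap (RatFunc k) K RatFunc.X with hxdef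
  haveI : FiniteDimensional (RatFunc k) K := Module.finite_of_finrank_eq_succ hdeg
  have hv := vDiff_le_one hφ hfin
  rcases le_or_gt 1 (Q.1 y) with h1 | hlt
  · exact hv.trans h1
  have hF := isFF_ratFunc k
  obtain ⟨P, e, hPQ, he⟩ := exists_over hF Q
  obtain ⟨he1, he2, -⟩ := quad_over hF hdeg he
  have hX : 0 ≤ P.ord (RatFunc.X : RatFunc k) := by
    have h3 := (val_le_one_iff Q (show x ≠ 0 by simp [x, RatFunc.X_ne_zero])).mp hfin
    rw [hxdef, ord_over he] at h3
    exact nonneg_of_mul_nonneg_right h3 (by omega)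
  have hypos : 1 ≤ Q.ord y := by
    rw [val_eq_exp Q hy0, ← exp_zero, exp_lt_exp] at hlt; omega
  have hord : (e : ℤ) * P.ord (ι f) = 2 * Q.ord y := by
    rw [← ord_over he, ← heq, ord_pow]; push_cast; ring
  rcases ratFunc_squarefree P hX hf with h | h <;> rw [h] at hord
  · omega
  have hy1 : Q.ord y = 1 := by omega
  have h2F : (2 : F) ≠ 0 := by rw [← map_ofNat (algebraMap k F) 2]; simpa using h2
  have hdy : LocRes.vDiff φ 1 y = 1 := by
    rw [vDiff_of_ord hφ hy0 (by rw [hy1, Int.cast_one]; exact one_ne_zero), hy1]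
    norm_num
  have hD := D_exp_aeval φ x f
  rw [hxdef, ← ratPoly_eq_aeval, ← heq, map_pow, sq, Derivation.leibniz, smul_eq_mul, ← two_mul] at hD
  have h2v : (Valued.v (2 : LaurentSeries F)) = 1 := by
    rw [← map_ofNat φ 2, hφ.1, ← map_ofNat (algebraMap k K) 2]; exact val_algebraMap Q h2
  have hv' := congrArg (Valued.v (R := LaurentSeries F)) hD
  rw [map_mul, map_mul, map_mul, h2v, one_mul, hφ.1, ← vDiff_one, hdy, mul_one, ← ratPoly_eq_aeval, hφ.1,
    ← vDiff_one, he] at hv'
  rcases eq_or_ne (LocRes.vDiff φ 1 x) 0 with h0 | h0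
  · rw [h0]; exact zero_le
  rcases eq_or_ne (ι (derivative f)) 0 with hd | hd
  · rw [hd, map_zero, zero_pow (by omega), zero_mul] at hv'
    exact absurd hv' (val_ne_zero Q hy0)
  rw [val_eq_exp Q hy0, hy1, val_eq_exp P hd, ← exp_log h0, ← exp_nsmul, ← exp_add, exp_inj, nsmul_eq_mul] at hv'
  rw [val_eq_exp Q hy0, hy1, ← exp_log h0, exp_le_exp]
  rw [← exp_log h0, ← exp_zero, exp_le_exp] at hv
  have ha : 0 ≤ P.ord (ι (derivative f)) :=
    (val_le_one_iff P hd).mp (ratPoly_le_one P ((val_le_one_iff P RatFunc.X_ne_zero).mpr hX) _)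
  interval_cases e <;> omega

end

variable [CharP k 2]

theorem natDegree_derivative_even {p : Polynomial k} (h : Even p.natDegree) (hp : derivative p ≠ 0) :
    (derivative p).natDegree + 2 ≤ p.natDegree := by
  obtain ⟨j, hj⟩ := h
  have hpos : p.natDegree ≠ 0 := fun e => hp (by rw [eq_C_of_natDegree_eq_zero e, derivative_C])
  have hlt : (derivative p).natDegree < p.natDegree := natDegree_derivative_lt hpos
  rcases eq_or_ne (derivative p).natDegree (p.natDegree - 1) with e | e
  · exfalso
    have hz : (p.natDegree : k) = 0 := by rw [hj, Nat.cast_add, CharTwo.add_self_eq_zero]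
    have hc : (derivative p).coeff (p.natDegree - 1) = 0 := by
      rw [coeff_derivative, Nat.sub_add_cancel (by omega : 1 ≤ p.natDegree), Nat.cast_sub (by omega),
        Nat.cast_one, sub_add_cancel, hz, mul_zero]
    rw [← e, coeff_natDegree, leadingCoeff_eq_zero] at hc
    exact hp hc
  · omega

theorem natDegree_derivative_odd {p : Polynomial k} (h : Odd p.natDegree) :
    derivative p ≠ 0 ∧ (derivative p).natDegree + 1 = p.natDegree := by
  obtain ⟨j, hj⟩ := h
  have hc : (derivative p).coeff (p.natDegree - 1) ≠ 0 := by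
    rw [coeff_derivative, Nat.sub_add_cancel (by omega : 1 ≤ p.natDegree), coeff_natDegree,
      Nat.cast_sub (by omega), Nat.cast_one, sub_add_cancel, hj]
    push_cast
    rw [CharTwo.two_eq_zero, zero_mul, zero_add, mul_one]
    exact leadingCoeff_ne_zero.mpr fun e => by rw [e, natDegree_zero] at hj; omega
  have hne : derivative p ≠ 0 := fun e => hc (by rw [e, coeff_zero])
  have := le_natDegree_of_ne_zero hc
  have := natDegree_derivative_lt (p := p) (by omega)
  exact ⟨hne, by omega⟩

/-- The derivative at a finite pole of odd order. -/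
theorem ratDeriv_val_finite [PerfectField k] {f : RatFunc k} (P : Place k (RatFunc k))
    (hX : P.1 (RatFunc.X : RatFunc k) ≤ 1) (hneg : P.ord f < 0) (hodd : Odd (P.ord f)) :
    P.1 (ratDeriv f) = exp (1 - P.ord f) := by
  obtain ⟨π, hπ, hπv, hunit⟩ := exists_unif_poly P hX
  have hf0 : f ≠ 0 := fun e => by rw [e] at hneg; simp at hneg
  have hb0 : f.denom ≠ 0 := RatFunc.denom_ne_zero f
  obtain ⟨n, r, hr, hbr⟩ := WfDvdMonoid.max_power_factor' hb0 hπ.not_isUnit
  have hb : P.1 (ι f.denom) = exp (-(n : ℤ)) := by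
    rw [hbr, map_mul, map_pow, map_mul, map_pow, hπv, hunit r hr, mul_one, ← exp_nsmul]
    simp
  have hfv : P.1 f * exp (-(n : ℤ)) = P.1 (ι f.num) := by
    rw [← hb, ← map_mul, ← (div_eq_iff (by simpa using hb0)).mp (RatFunc.num_div_denom f)]
  have ha := ratPoly_le_one P hX f.num
  rw [← hfv, val_eq_exp P hf0, ← exp_add, ← exp_zero, exp_le_exp] at ha
  have hπnum : ¬ π ∣ f.num := by
    intro hdvd
    have hπd : π ∣ f.denom := hbr ▸ dvd_mul_of_dvd_left (dvd_pow_self π (by omega)) r
    exact hπ.not_isUnit ((RatFunc.isCoprime_num_denom f).isUnit_of_dvd' hdvd hπd)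
  rw [hunit _ hπnum, val_eq_exp P hf0, ← exp_add, ← exp_zero, exp_inj] at hfv
  obtain ⟨m, hm⟩ : ∃ m : ℕ, n = 2 * m + 1 := by
    obtain ⟨j, hj⟩ := hodd
    exact ⟨(-j - 1).toNat, by omega⟩
  have hsep : ¬ π ∣ derivative π := fun hdvd =>
    hπ.not_isUnit ((PerfectField.separable_of_irreducible hπ).isUnit_of_dvd' dvd_rfl hdvd)
  have h2p : (2 : Polynomial k) = 0 := CharTwo.two_eq_zero
  have hb' : P.1 (ι (derivative f.denom)) = exp (-(2 * m : ℤ)) := by
    have e : derivative f.denom = π ^ (2 * m) * (derivative π * r + π * derivative r) := by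
      rw [hbr, hm, derivative_mul, derivative_pow_succ]
      simp [CharTwo.two_eq_zero]
      ring
    have hin : ¬ π ∣ derivative π * r + π * derivative r := fun h =>
      (hπ.prime.dvd_or_dvd ((dvd_add_left (dvd_mul_right π _)).mp h)).elim hsep hr
    rw [e, map_mul, map_pow, map_mul, map_pow, hπv, hunit _ hin, mul_one, ← exp_nsmul]
    simp
  have hbig : P.1 (f * ι (derivative f.denom)) = exp (1 : ℤ) := by
    rw [map_mul, val_eq_exp P hf0, hb', ← exp_add]; congr 1; omega
  have hnum : P.1 (ι (derivative f.num) - f * ι (derivative f.denom)) = exp (1 : ℤ) := by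
    rw [Valuation.map_sub_swap, Valuation.map_sub_eq_of_lt_left _ ?_, hbig]
    rw [hbig]
    exact (ratPoly_le_one P hX _).trans_lt (by rw [← exp_zero, exp_lt_exp]; omega)
  rw [ratDeriv, map_div₀, hnum, hb, ← exp_sub]
  congr 1; omega

/-- The derivative at an infinite pole of odd order. -/
theorem ratDeriv_val_infty {f : RatFunc k} (P : Place k (RatFunc k))
    (hX : P.ord (RatFunc.X : RatFunc k) < 0) (hneg : P.ord f < 0) (hodd : Odd (P.ord f)) :
    P.1 (ratDeriv f) = exp (-P.ord f - 1) := by
  obtain ⟨-, -, hord⟩ := ratFunc_infinity P hX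
  have hf0 : f ≠ 0 := fun e => by rw [e] at hneg; simp at hneg
  have hb0 : f.denom ≠ 0 := RatFunc.denom_ne_zero f
  have ha0 : f.num ≠ 0 := RatFunc.num_ne_zero hf0
  have hva : ∀ p : Polynomial k, p ≠ 0 → P.1 (ι p) = exp (p.natDegree : ℤ) := fun p hp => by
    rw [val_eq_exp P (by simpa using hp), hord p hp, neg_neg]
  have hm : P.ord f = (f.denom.natDegree : ℤ) - f.num.natDegree := by
    have h := congrArg P.ord ((div_eq_iff (show ι f.denom ≠ 0 by simpa using hb0)).mp (RatFunc.num_div_denom f))
    rw [ord_mul P hf0 (by simpa using hb0), hord _ ha0, hord _ hb0] at h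
    omega
  have hsum : P.1 (ι (derivative f.num) - f * ι (derivative f.denom)) =
      exp ((f.num.natDegree : ℤ) - 1) := by
    rcases Nat.even_or_odd f.num.natDegree with hev | hod
    · have hbo : Odd f.denom.natDegree := by
        obtain ⟨i, hi⟩ := hev
        obtain ⟨j, hj⟩ := hodd
        exact ⟨(j + i : ℤ).toNat, by omega⟩
      obtain ⟨hne, hdb⟩ := natDegree_derivative_odd hbo
      have hbig : P.1 (f * ι (derivative f.denom)) = exp ((f.num.natDegree : ℤ) - 1) := by
        rw [map_mul, val_eq_exp P hf0, hva _ hne, ← exp_add]; congr 1; omega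
      rw [Valuation.map_sub_swap, Valuation.map_sub_eq_of_lt_left _ ?_, hbig]
      rw [hbig]
      rcases eq_or_ne (derivative f.num) 0 with e | e
      · rw [e, map_zero, map_zero]; exact exp_pos
      · rw [hva _ e, exp_lt_exp]
        have := natDegree_derivative_even hev e
        omega
    · obtain ⟨hne, hda⟩ := natDegree_derivative_odd hod
      have hbig : P.1 (ι (derivative f.num)) = exp ((f.num.natDegree : ℤ) - 1) := by
        rw [hva _ hne]; congr 1; omega
      rw [Valuation.map_sub_eq_of_lt_left _ ?_, hbig]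
      rw [hbig]
      rcases eq_or_ne (derivative f.denom) 0 with e | e
      · rw [e, map_zero, mul_zero, map_zero]; exact exp_pos
      · have hbe : Even f.denom.natDegree := by
          obtain ⟨i, hi⟩ := hod
          obtain ⟨j, hj⟩ := hodd
          exact ⟨(i + j + 1 : ℤ).toNat, by omega⟩
        rw [map_mul, val_eq_exp P hf0, hva _ e, ← exp_add, exp_lt_exp]
        have := natDegree_derivative_even hbe e
        omega
  rw [ratDeriv, map_div₀, hsum, hva _ hb0, ← exp_sub]
  congr 1; omega

/-- The order of `dx` above a pole of odd order of `f`. -/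
theorem vDiff_dx_as {K : Type v} [Field K] [Algebra k K] [Algebra (RatFunc k) K] [IsScalarTower k (RatFunc k) K]
    (hdeg : Module.finrank (RatFunc k) K = 2) {y : K} {f : RatFunc k}
    (heq : y ^ 2 + y = algebraMap (RatFunc k) K f) {Q : Place k K} {P : Place k (RatFunc k)} {e : ℕ}
    (he : IsOverWith Q P e) (hneg : P.ord f < 0) (hodd : Odd (P.ord f)) {F : Type w} [Field F] [Algebra k F]
    {φ : K →ₐ[k] LaurentSeries F} (hφ : LocRes.IsExpansionAt Q.1 φ) :
    e = 2 ∧ LocRes.vDiff φ 1 (algebraMap (RatFunc k) K RatFunc.X) * P.1 (ratDeriv f) ^ 2 =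
      exp (1 - P.ord f) := by
  have hF := isFF_ratFunc k
  obtain ⟨he1, he2, -⟩ := quad_over hF hdeg he
  haveI : FiniteDimensional (RatFunc k) K := Module.finite_of_finrank_eq_succ hdeg
  have hc : Q.ord (algebraMap (RatFunc k) K f) < 0 := by
    rw [ord_over he]; exact mul_neg_of_pos_of_neg (by omega) hneg
  have hy := ord_as heq hc
  rw [ord_over he] at hy
  obtain ⟨j, hj⟩ := hodd
  obtain rfl : e = 2 := by interval_cases e <;> omega
  refine ⟨rfl, ?_⟩
  haveI : CharP F 2 := charP_of_injective_algebraMap (algebraMap k F).injective 2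
  have hyo : Q.ord y = P.ord f := by omega
  have hy0 : y ≠ 0 := fun e => by rw [e] at hyo; simp at hyo; omega
  have hdy := vDiff_of_ord hφ hy0 (by
    rw [hyo, hj, Int.cast_add, Int.cast_mul]; simp [CharTwo.two_eq_zero])
  rw [← vDiff_as (φ := φ) CharTwo.two_eq_zero heq, vDiff_one, D_exp_ratFunc, map_mul, hφ.1, he, ← vDiff_one,
    hyo, mul_comm] at hdy
  rw [hdy]
  congr 1; ring

end Groth.Agent.FFLib
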