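import Groth.Agent.FFLib.RR
import Groth.Agent.FFLib.ZetaCount
import Groth.Agent.FFLib.Quadratic
import Mathlib.RingTheory.Polynomial.GaussLemma

/-! The Riemann–Roch spaces of a quadratic extension split along `1, y`. -/

set_option linter.unusedSectionVars false
set_option linter.style.haveILetI false

namespace Groth.Agent.FFLib

open FunFld WithZero

variable {k F K : Type*} [Field k] [Field F] [Algebra k F] [Field K] [Algebra k K] [Algebra F K]
  [IsScalarTower k F K]

/-- Coordinates along `1, y`. -/
noncomputable def quadBasis (hdeg : Module.finrank F K = 2) {y : K} (hy : y ∉ Set.range (algebraMap F K)) :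
    Module.Basis (Fin 2) F K :=
  basisOfLinearIndependentOfCardEqFinrank (b := ![(1 : K), y]) (by
    rw [LinearIndependent.pair_iff' one_ne_zero]
    intro a ha
    exact hy ⟨a, by rw [← ha, Algebra.smul_def, mul_one]⟩) (by rw [Fintype.card_fin, hdeg])

theorem quadBasis_eq (hdeg : Module.finrank F K = 2) {y : K} (hy : y ∉ Set.range (algebraMap F K)) :
    ⇑(quadBasis hdeg hy) = ![(1 : K), y] :=
  coe_basisOfLinearIndependentOfCardEqFinrank _ _

theorem eq_zero_of_add_mul (hdeg : Module.finrank F K = 2) {y : K} (hy : y ∉ Set.range (algebraMap F K)) {a b : F}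
    (h : algebraMap F K a + algebraMap F K b * y = 0) : a = 0 ∧ b = 0 := by
  have hb : b = 0 := by
    by_contra hb
    refine hy ⟨-a / b, ?_⟩
    have : algebraMap F K b ≠ 0 := by simpa using hb
    rw [map_div₀, map_neg, div_eq_iff this]
    linear_combination -h
  subst hb
  exact ⟨by simpa using h, rfl⟩

/-- The nontrivial automorphism of a quadratic extension. -/
theorem exists_conj_aut (hdeg : Module.finrank F K = 2) {y : K} (hy : y ∉ Set.range (algebraMap F K)) {r u : F}
    (hyy : y ^ 2 = algebraMap F K r * y + algebraMap F K u) :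
    ∃ σ : K ≃ₐ[F] K, σ y = algebraMap F K r - y := by
  set b := quadBasis hdeg hy with hbdef
  have hb := quadBasis_eq hdeg hy
  let l : K →ₗ[F] K := b.constr F ![(1 : K), algebraMap F K r - y]
  have hl1 : l 1 = 1 := by
    have := b.constr_basis F ![(1 : K), algebraMap F K r - y] 0
    simpa [l, hbdef, hb] using this
  have hly : l y = algebraMap F K r - y := by
    have := b.constr_basis F ![(1 : K), algebraMap F K r - y] 1
    simpa [l, hbdef, hb] using this
  have hl : ∀ a c : F, l (algebraMap F K a + algebraMap F K c * y) =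
      algebraMap F K a + algebraMap F K c * (algebraMap F K r - y) := fun a c => by
    rw [← Algebra.smul_def c, map_add, map_smul, hly, Algebra.smul_def,
      show algebraMap F K a = a • (1 : K) from (by rw [Algebra.smul_def, mul_one]), map_smul, hl1]
  have hmul : ∀ z w : K, l (z * w) = l z * l w := fun z w => by
    obtain ⟨a, c, rfl⟩ := exists_eq_add_mul hdeg hy z
    obtain ⟨a', c', rfl⟩ := exists_eq_add_mul hdeg hy w
    rw [show (algebraMap F K a + algebraMap F K c * y) * (algebraMap F K a' + algebraMap F K c' * y) =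
        algebraMap F K (a * a' + c * c' * u) + algebraMap F K (a * c' + a' * c + c * c' * r) * y by
      simp only [map_add, map_mul]
      linear_combination (algebraMap F K c * algebraMap F K c') * hyy, hl, hl, hl]
    simp only [map_add, map_mul]
    linear_combination (-(algebraMap F K c * algebraMap F K c')) * hyy
  haveI : FiniteDimensional F K := Module.finite_of_finrank_eq_succ hdeg
  let f : K →ₐ[F] K := AlgHom.ofLinearMap l hl1 hmul
  exact ⟨AlgEquiv.ofBijective f (AlgHom.bijective f), hly⟩

variable (k F K) in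
/-- Local bounds on `a + b y` read on the coordinates, shifted by `B`. -/
def QuadLoc (y : K) (B : Divisor k F) : Prop :=
  ∀ (P : Place k F) (a b : F) (n : ℤ),
    (∀ (Q : Place k K) (e : ℕ), IsOverWith Q P e → Q.1 (algebraMap F K a + algebraMap F K b * y) ≤ exp ((e : ℤ) * n)) ↔
      (P.1 a ≤ exp n ∧ P.1 b ≤ exp (n - B P))

theorem mem_conorm_iff (hF : IsFF k F) [FiniteDimensional F K] {A : Divisor k F} {z : K} :
    z ∈ L (conorm K A) ↔
      ∀ (P : Place k F) (Q : Place k K) (e : ℕ), IsOverWith Q P e → Q.1 z ≤ exp ((e : ℤ) * A P) := by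
  refine ⟨fun h P Q e he => (h Q).trans_eq (by rw [conorm_apply hF _ he]), fun h Q => ?_⟩
  obtain ⟨P, e, -, he⟩ := exists_over hF Q
  rw [conorm_apply hF _ he]
  exact h P Q e he

variable (hdeg : Module.finrank F K = 2) {y : K} (hy : y ∉ Set.range (algebraMap F K)) {B : Divisor k F}
  (hloc : QuadLoc k F K y B)

include hloc

theorem quad_mem_iff (hF : IsFF k F) [FiniteDimensional F K] (A : Divisor k F) (a b : F) :
    algebraMap F K a + algebraMap F K b * y ∈ L (conorm K A) ↔ a ∈ L A ∧ b ∈ L (A - B) := by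
  rw [mem_conorm_iff hF]
  refine ⟨fun h => ⟨fun P => ((hloc P a b (A P)).mp (h P)).1, fun P => ?_⟩, fun h P => ?_⟩
  · rw [Finsupp.sub_apply]; exact ((hloc P a b (A P)).mp (h P)).2
  · exact (hloc P a b (A P)).mpr ⟨h.1 P, by have := h.2 P; rwa [Finsupp.sub_apply] at this⟩

include hdeg hy

theorem ell_conorm_quad (hF : IsFF k F) (A : Divisor k F) :
    ell (conorm K A) = ell A + ell (A - B) := by
  haveI : FiniteDimensional F K := Module.finite_of_finrank_eq_succ hdeg
  haveI := L_finite hF A
  haveI := L_finite hF (A - B)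
  let f : L A × L (A - B) →ₗ[k] L (conorm K A) :=
    { toFun := fun p => ⟨algebraMap F K p.1.1 + algebraMap F K p.2.1 * y, (quad_mem_iff hloc hF A _ _).mpr ⟨p.1.2, p.2.2⟩⟩
      map_add' := fun p q => Subtype.ext (by simp [add_mul]; abel)
      map_smul' := fun c p => Subtype.ext (by
        simp only [Prod.smul_fst, Prod.smul_snd, Submodule.coe_smul, RingHom.id_apply, smul_add]
        rw [Algebra.smul_def, Algebra.smul_def, Algebra.smul_def, Algebra.smul_def, map_mul, map_mul,
          ← IsScalarTower.algebraMap_apply, mul_assoc]) }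
  have hf : Function.Bijective f := by
    refine ⟨(injective_iff_map_eq_zero f).mpr fun p hp => ?_, fun z => ?_⟩
    · obtain ⟨h1, h2⟩ := eq_zero_of_add_mul hdeg hy (congrArg Subtype.val hp)
      exact Prod.ext (Subtype.ext h1) (Subtype.ext h2)
    · obtain ⟨a, b, hab⟩ := exists_eq_add_mul hdeg hy z.1
      obtain ⟨ha, hb⟩ := (quad_mem_iff hloc hF A a b).mp (hab ▸ z.2)
      exact ⟨(⟨a, ha⟩, ⟨b, hb⟩), Subtype.ext hab⟩
  rw [ell, ← (LinearEquiv.ofBijective f hf).finrank_eq, Module.finrank_prod]
  rfl

/-- The constants stay algebraically closed when `deg B > 0`. -/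
theorem quad_isFunctionField (hF : IsFunctionField k F) (hB : 0 < B.deg) : IsFunctionField k K := by
  haveI : FiniteDimensional F K := Module.finite_of_finrank_eq_succ hdeg
  refine ⟨IsFF.ext hF.1, fun z hz => ?_⟩
  rcases eq_or_ne z 0 with rfl | hz0
  · exact ⟨0, map_zero _⟩
  obtain ⟨a, b, hab⟩ := exists_eq_add_mul hdeg hy z
  have hmem : z ∈ L (conorm K (0 : Divisor k F)) := (mem_conorm_iff hF.1).mpr fun P Q e _ => by
    rw [Finsupp.zero_apply, mul_zero, exp_zero]
    by_contra hne
    exact transcendental_of_val_ne_one Q hz0 (fun e => hne e.le) hz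
  obtain ⟨ha, hb⟩ := (quad_mem_iff hloc hF.1 0 a b).mp (hab ▸ hmem)
  have hb0 : b = 0 := by
    haveI := L_finite hF.1 (0 - B)
    haveI : Subsingleton (L (0 - B)) := Module.finrank_zero_iff.mp (ell_eq_zero_of_deg_neg hF.1 (by
      rw [Divisor.deg_sub, show (0 : Divisor k F).deg = 0 from map_zero (degHom k F)]; omega))
    exact congrArg Subtype.val (Subsingleton.elim (⟨b, hb⟩ : L (0 - B)) 0)
  rw [L_zero_eq hF] at ha
  obtain ⟨c, hc⟩ := ha
  exact ⟨c, by rw [← hab, hb0, map_zero, zero_mul, add_zero, ← hc]; exact IsScalarTower.algebraMap_apply k F K c⟩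

/-- `g(K) = 2 g(F) - 1 + deg B`. -/
theorem quad_genus (hF : IsFunctionField k F) (hK : IsFunctionField k K) :
    (genus k K : ℤ) = 2 * genus k F - 1 + B.deg := by
  haveI : FiniteDimensional F K := Module.finite_of_finrank_eq_succ hdeg
  obtain ⟨A, -, hA⟩ := exists_ge_deg hF.1 (0 : Divisor k F)
    (2 * (genus k F : ℤ) + |B.deg| + genus k K + 1)
  have h := congrArg (Nat.cast : ℕ → ℤ) (ell_conorm_quad hdeg hy hloc hF.1 A)
  push_cast at h
  have := abs_nonneg B.deg
  have := le_abs_self B.deg
  rw [ell_of_deg_gt hK (by rw [deg_conorm hF.1, hdeg]; push_cast; omega), deg_conorm hF.1, hdeg,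
    ell_of_deg_gt hF (by omega), ell_of_deg_gt hF (by rw [Divisor.deg_sub]; omega), Divisor.deg_sub] at h
  push_cast at h
  omega

end Groth.Agent.FFLib
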