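import Groth.Agent.FFLib.Quad.PartFrac

/-! Repartitions of a split Artin–Schreier extension. -/

set_option linter.unusedSectionVars false
set_option linter.style.haveILetI false

namespace Groth.Agent.FFLib

open FunFld WithZero Polynomial

universe u v

variable {k : Type u} [Field k]

theorem val_poly_root {P : Place k (RatFunc k)} {β : k} (h : P.1 ((RatFunc.X : RatFunc k) - RatFunc.C β) < 1)
    {q : Polynomial k} (hq : q ≠ 0) :
    P.1 (algebraMap (Polynomial k) (RatFunc k) q) = exp (-(q.rootMultiplicity β : ℤ)) := by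
  have hX1 := val_X_le_of_lt h
  have ht : P.1 ((RatFunc.X : RatFunc k) - RatFunc.C β) = exp (-1 : ℤ) := by
    rw [val_eq_exp P (sub_C_ne_zero β), ord_sub_C,
      if_neg (not_lt.mpr ((val_le_one_iff P RatFunc.X_ne_zero).mp hX1)), if_pos h]
  obtain ⟨r, hqr, hr⟩ := exists_eq_pow_rootMultiplicity_mul_and_not_dvd q hq β
  have hr1 : P.1 (algebraMap (Polynomial k) (RatFunc k) r) = 1 := by
    refine le_antisymm (ratPoly_le_one P hX1 r) (not_lt.mp fun hlt => ?_)
    obtain ⟨s, hs⟩ := Polynomial.X_sub_C_dvd_sub_C_eval (a := β) (p := r)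
    have hev : r.eval β ≠ 0 := fun e => hr (dvd_iff_isRoot.mpr e)
    have h1 : P.1 (algebraMap (Polynomial k) (RatFunc k) (C (r.eval β))) = 1 := by
      rw [RatFunc.algebraMap_C, C_eq_algebraMap, val_algebraMap P hev]
    rw [show C (r.eval β) = r - (X - C β) * s by rw [← hs]; ring, map_sub (algebraMap (Polynomial k) (RatFunc k)),
      map_mul (algebraMap (Polynomial k) (RatFunc k)), map_sub (algebraMap (Polynomial k) (RatFunc k)),
      RatFunc.algebraMap_X, RatFunc.algebraMap_C] at h1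
    have h2 : P.1 (((RatFunc.X : RatFunc k) - RatFunc.C β) * algebraMap (Polynomial k) (RatFunc k) s) < 1 := by
      rw [map_mul]
      exact (mul_le_mul' le_rfl (ratPoly_le_one P hX1 s)).trans_lt (by rwa [mul_one])
    exact ((P.1.map_sub _ _).trans_lt (max_lt hlt h2)).ne h1
  conv_lhs => rw [hqr]
  rw [map_mul, map_pow, map_sub, RatFunc.algebraMap_X, RatFunc.algebraMap_C, map_mul, map_pow, ht, hr1,
    mul_one, ← exp_nsmul]
  simp

theorem root_place_unique {P P' : Place k (RatFunc k)} {β : k}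
    (h : P.1 ((RatFunc.X : RatFunc k) - RatFunc.C β) < 1)
    (h' : P'.1 ((RatFunc.X : RatFunc k) - RatFunc.C β) < 1) : P = P' := by
  refine Subtype.ext (Valuation.ext fun z => ?_)
  rcases eq_or_ne z 0 with rfl | hz
  · simp
  rw [← RatFunc.num_div_denom z, map_div₀, map_div₀, val_poly_root h (RatFunc.num_ne_zero hz),
    val_poly_root h (RatFunc.denom_ne_zero z), val_poly_root h' (RatFunc.num_ne_zero hz),
    val_poly_root h' (RatFunc.denom_ne_zero z)]

theorem eq_zero_of_sum_pow_le {F : Type v} [Field F] [Algebra k F] (P : Place k F) {t : F}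
    (ht : P.1 t = exp (-1 : ℤ)) {J : Type*} (S : Finset J) (c : J → k) (j : J → ℕ)
    (hinj : ∀ a ∈ S, ∀ b ∈ S, j a = j b → a = b) {n : ℕ} (hn : ∀ a ∈ S, j a < n)
    (h : P.1 (∑ a ∈ S, c a • t ^ j a) ≤ exp (-(n : ℤ))) : ∀ a ∈ S, c a = 0 := by
  classical
  by_contra! hcon
  obtain ⟨a, ha, hca⟩ := hcon
  obtain ⟨l, hl, hmin⟩ := Finset.exists_min_image (S.filter fun a => c a ≠ 0) j
    ⟨a, Finset.mem_filter.mpr ⟨ha, hca⟩⟩
  obtain ⟨hlS, hcl⟩ := Finset.mem_filter.mp hl
  have hv : ∀ b, c b ≠ 0 → P.1 (c b • t ^ j b) = exp (-(j b : ℤ)) := fun b hb => by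
    rw [Algebra.smul_def, map_mul, val_algebraMap P hb, one_mul, map_pow, ht, ← exp_nsmul]
    simp
  rw [← Finset.add_sum_erase S (fun a => c a • t ^ j a) hlS] at h
  have hlt : P.1 (∑ b ∈ S.erase l, c b • t ^ j b) < P.1 (c l • t ^ j l) := by
    rw [hv l hcl]
    refine P.1.map_sum_lt exp_ne_zero fun b hb => ?_
    obtain ⟨hbl, hbS⟩ := Finset.mem_erase.mp hb
    by_cases hcb : c b = 0
    · rw [hcb, zero_smul, map_zero]; exact exp_pos
    · rw [hv b hcb, exp_lt_exp]
      have := hmin b (Finset.mem_filter.mpr ⟨hbS, hcb⟩)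
      have : j b ≠ j l := fun e => hbl (hinj b hbS l hlS e)
      omega
  rw [P.1.map_add_eq_of_lt_left hlt, hv l hcl, exp_le_exp] at h
  have := hn l hlS
  omega

variable {K : Type v} [Field K] [Algebra k K] [Algebra (RatFunc k) K] [IsScalarTower k (RatFunc k) K]
  [CharP k 2] (B : Finset k) (d : k → ℕ) (hd : ∀ β ∈ B, Odd (d β)) (f : RatFunc k)
  (hpole : ∀ (p : Place k (RatFunc k)) (β : k), β ∈ B →
    p.1 ((RatFunc.X : RatFunc k) - RatFunc.C β) < 1 → p.ord f = -(d β : ℤ))
  (hint : ∀ p : Place k (RatFunc k), (∀ β ∈ B, 1 ≤ p.1 ((RatFunc.X : RatFunc k) - RatFunc.C β)) → p.1 f ≤ 1)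
  (hdeg : Module.finrank (RatFunc k) K = 2) {y : K}
  (heq : y ^ 2 + y = algebraMap (RatFunc k) K f) (hy : y ∉ Set.range (algebraMap (RatFunc k) K))

include hd hpole hint hdeg heq hy

omit [CharP k 2] hy hint in
/-- The place above a split pole. -/
theorem split_over {Q : Place k K} {β : k} (hβ : β ∈ B)
    (hQ : Q.1 (algebraMap (RatFunc k) K RatFunc.X - algebraMap k K β) < 1) :
    ∃ P : Place k (RatFunc k), P.1 ((RatFunc.X : RatFunc k) - RatFunc.C β) < 1 ∧ IsOverWith Q P 2 ∧
      Q.ord y = -(d β : ℤ) ∧ Q.ord (algebraMap (RatFunc k) K RatFunc.X - algebraMap k K β) = 2 ∧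
      ∀ Q' : Place k K, IsOver Q' P → Q' = Q := by
  have hF := isFF_ratFunc k
  haveI : FiniteDimensional (RatFunc k) K := Module.finite_of_finrank_eq_succ hdeg
  obtain ⟨P, e, -, he⟩ := exists_over hF Q
  obtain ⟨he1, he2, hram⟩ := quad_over hF hdeg he
  have hmap : algebraMap (RatFunc k) K RatFunc.X - algebraMap k K β =
      algebraMap (RatFunc k) K (RatFunc.X - RatFunc.C β) := by
    rw [map_sub, C_eq_algebraMap, ← IsScalarTower.algebraMap_apply]
  have hP : P.1 ((RatFunc.X : RatFunc k) - RatFunc.C β) < 1 := by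
    rw [hmap, he] at hQ
    exact (pow_lt_one_iff_of_nonneg zero_le (by omega)).mp hQ
  have hpo := hpole P β hβ hP
  obtain ⟨j, hj⟩ := hd β hβ
  have hneg : P.ord f < 0 := by omega
  have hc : Q.ord (algebraMap (RatFunc k) K f) < 0 := by
    rw [ord_over he]; exact mul_neg_of_pos_of_neg (by omega) hneg
  have hyo := ord_as heq hc
  rw [ord_over he, hpo] at hyo
  obtain rfl : e = 2 := by interval_cases e <;> omega
  refine ⟨P, hP, he, by omega, ?_, (hram rfl).2⟩
  rw [hmap, ord_over he, ord_sub_C,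
    if_neg (not_lt.mpr ((val_le_one_iff P RatFunc.X_ne_zero).mp (val_X_le_of_lt hP))), if_pos hP]
  norm_num

/-- The local coordinates of `u + v y`. -/
theorem split_quadLoc : ∃ D : Divisor k (RatFunc k), QuadLoc k (RatFunc k) K y D ∧
    ∀ P : Place k (RatFunc k),
      (∀ β ∈ B, P.1 ((RatFunc.X : RatFunc k) - RatFunc.C β) < 1 → D P = (((d β + 1) / 2 : ℕ) : ℤ)) ∧
      ((∀ β ∈ B, 1 ≤ P.1 ((RatFunc.X : RatFunc k) - RatFunc.C β)) → D P = 0) := by
  classical
  let D : Divisor k (RatFunc k) :=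
    Finsupp.mapRange (fun n : ℤ => (n + 1) / 2) (by norm_num) (poles f : Divisor k (RatFunc k))
  have hD : ∀ P : Place k (RatFunc k), D P = if P.ord f < 0 then (1 - P.ord f) / 2 else 0 := fun P => by
    simp only [D, poles, Finsupp.mapRange_apply, div_apply (isFF_ratFunc k)]
    split_ifs <;> omega
  have h2 : (2 : RatFunc k) = 0 := by
    rw [← map_ofNat (algebraMap k (RatFunc k)) 2, CharTwo.two_eq_zero, map_zero]
  refine ⟨D, quadLoc_as hdeg hy (isFF_ratFunc k) h2 heq (split_odd B d hd f hpole hint) hD, fun P => ?_⟩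
  simp only [hD]
  exact split_pole B d hd f hpole hint P

omit hd hpole hint hy in
theorem val_y_le_one {Q : Place k K} {P : Place k (RatFunc k)} {e : ℕ} (he : IsOverWith Q P e) (hf : P.1 f ≤ 1) :
    Q.1 y ≤ 1 := by
  by_contra hgt
  rw [not_le] at hgt
  have hlt : Q.1 y < Q.1 (y ^ 2) := by rw [map_pow]; exact lt_self_pow₀ hgt (by norm_num)
  have h3 := Q.1.map_add_eq_of_lt_left hlt
  rw [heq, he f] at h3
  exact ((hgt.trans hlt).trans_eq h3.symm).not_ge (pow_le_one' hf e)

/-- Independence modulo everywhere integral repartitions and constants. -/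
theorem split_indep (Pl : k → Place k K)
    (hPl : ∀ β ∈ B, (Pl β).1 (algebraMap (RatFunc k) K RatFunc.X - algebraMap k K β) < 1)
    {I : Type*} [Fintype I] (cc : I → k) (jj : I → ℕ) (hcc : ∀ i, cc i ∈ B)
    (hjj : ∀ i, 2 * jj i < d (cc i)) (h0 : (0 : k) ∈ B) (hj0 : ∀ i, cc i = 0 → jj i ≠ 0)
    (hinj : ∀ i i', cc i = cc i' → jj i = jj i' → i = i') (g : I → k)
    (w : Place k K → K) (hw : ∀ Q, w Q = ∑ i, g i • (letI := Classical.decEq (Place k K)
      if Q = Pl (cc i) then y * (algebraMap (RatFunc k) K RatFunc.X - algebraMap k K (cc i)) ^ jj i else 0))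
    (hW : w ∈ AD (0 : Divisor k K) ⊔ LinearMap.range (diag k K)) : g = 0 := by
  classical
  have hF := isFF_ratFunc k
  haveI : FiniteDimensional (RatFunc k) K := Module.finite_of_finrank_eq_succ hdeg
  obtain ⟨a, ha, _, ⟨z, rfl⟩, hsum⟩ := Submodule.mem_sup.mp hW
  obtain ⟨u, v, huv⟩ := exists_eq_add_mul hdeg hy z
  obtain ⟨D, hloc, hD⟩ := split_quadLoc B d hd f hpole hint hdeg heq hy
  let p : k → RatFunc k := fun β =>
    ∑ i ∈ Finset.univ.filter (fun i => cc i = β), g i • ((RatFunc.X : RatFunc k) - RatFunc.C β) ^ jj i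
  have hz : ∀ Q : Place k K, Q.1 (z - w Q) ≤ 1 := fun Q => by
    rw [← hsum, Pi.add_apply, diag_apply, sub_add_cancel_right, Valuation.map_neg]
    simpa using ha Q
  have hmapx : ∀ β : k, algebraMap (RatFunc k) K RatFunc.X - algebraMap k K β =
      algebraMap (RatFunc k) K (RatFunc.X - RatFunc.C β) := fun β => by
    rw [map_sub, C_eq_algebraMap, ← IsScalarTower.algebraMap_apply]
  have hroot : ∀ P : Place k (RatFunc k), ∀ β ∈ B, P.1 ((RatFunc.X : RatFunc k) - RatFunc.C β) < 1 →
      P.1 u ≤ 1 ∧ P.1 (v - p β) ≤ exp (-(((d β + 1) / 2 : ℕ) : ℤ)) := by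
    intro P β hβ hP
    have h := (hloc P u (v - p β) 0).mp fun Q e he => by
      obtain ⟨P', hP', -, -, -, huniq⟩ := split_over B d hd f hpole hdeg heq hβ (hPl β hβ)
      obtain rfl := root_place_unique hP' hP
      obtain rfl := huniq Q ⟨e, he⟩
      have e1 : algebraMap (RatFunc k) K u + algebraMap (RatFunc k) K (v - p β) * y = z - w (Pl β) := by
        have hwp : w (Pl β) = algebraMap (RatFunc k) K (p β) * y := by
          rw [hw, map_sum, Finset.sum_mul, Finset.sum_filter]
          refine Finset.sum_congr rfl fun i _ => ?_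
          by_cases hi : cc i = β
          · rw [if_pos hi, if_pos (by rw [hi]), hmapx, Algebra.smul_def, Algebra.smul_def, map_mul, map_pow, hi,
              ← IsScalarTower.algebraMap_apply]
            ring
          · rw [if_neg hi, if_neg, smul_zero]
            intro e'
            obtain ⟨P1, h1, h1e, -, -, -⟩ := split_over B d hd f hpole hdeg heq (hcc i) (hPl _ (hcc i))
            have hlt : (Pl β).1 (algebraMap (RatFunc k) K RatFunc.X - algebraMap k K (cc i)) < 1 := e' ▸ hPl _ (hcc i)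
            obtain ⟨P2, h2, h2e, -, -, -⟩ := split_over B d hd f hpole hdeg heq (hcc i) hlt
            have h3 := hPl β hβ
            rw [hmapx, h2e] at h3
            exact hi (root_unique h2 ((pow_lt_one_iff_of_nonneg zero_le two_ne_zero).mp h3))
        rw [map_sub, hwp, ← huv]
        ring
      rw [e1, mul_zero, exp_zero]
      exact hz _
    rw [(hD P).1 β hβ hP, exp_zero, zero_sub] at h
    exact h
  have hoff : ∀ P : Place k (RatFunc k), (∀ β ∈ B, 1 ≤ P.1 ((RatFunc.X : RatFunc k) - RatFunc.C β)) →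
      P.1 u ≤ 1 ∧ P.1 v ≤ 1 := by
    intro P hP
    have h := (hloc P u v 0).mp fun Q e he => by
      have hw0 : w Q = 0 := by
        rw [hw]
        refine Finset.sum_eq_zero fun i _ => ?_
        rw [if_neg, smul_zero]
        rintro rfl
        have h3 := hPl _ (hcc i)
        rw [hmapx, he] at h3
        exact h3.not_ge (one_le_pow₀ (hP _ (hcc i)))
      have := hz Q
      rw [hw0, sub_zero, ← huv] at this
      rwa [mul_zero, exp_zero]
    rw [(hD P).2 hP, exp_zero, sub_zero, exp_zero] at h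
    exact h
  have hp1 : ∀ P : Place k (RatFunc k), ∀ β, P.1 ((RatFunc.X : RatFunc k) - RatFunc.C β) < 1 → P.1 (p β) ≤ 1 :=
    fun P β hP => Valuation.map_sum_le P.1 fun i _ => by
      rw [Algebra.smul_def, map_mul, map_pow]
      exact mul_le_one' (P.2.1 _) (pow_le_one' hP.le _)
  have hv : v ∈ L (0 : Divisor k (RatFunc k)) := fun P => by
    rw [Finsupp.zero_apply, exp_zero]
    by_cases hex : ∃ β ∈ B, P.1 ((RatFunc.X : RatFunc k) - RatFunc.C β) < 1
    · obtain ⟨β, hβ, hlt⟩ := hex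
      rw [← sub_add_cancel v (p β)]
      refine (P.1.map_add _ _).trans (max_le ((hroot P β hβ hlt).2.trans ?_) (hp1 P β hlt))
      rw [← exp_zero, exp_le_exp]; omega
    · push Not at hex
      exact (hoff P hex).2
  rw [L_zero_eq (isFunctionField_ratFunc k)] at hv
  obtain ⟨C₀, hC₀⟩ := hv
  obtain ⟨P0, hP0⟩ := exists_root_place (0 : k)
  have hvz : v = 0 := by
    by_contra hne
    have h1 := (hroot P0 0 h0 hP0).2
    obtain ⟨j, hj⟩ := hd 0 h0
    have hp : P0.1 (p 0) < 1 := P0.1.map_sum_lt one_ne_zero fun i hi => by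
      rw [Algebra.smul_def, map_mul, map_pow]
      exact (mul_le_mul' (P0.2.1 _) le_rfl).trans_lt (by
        rw [one_mul]
        exact pow_lt_one₀ zero_le hP0 (hj0 i (Finset.mem_filter.mp hi).2))
    have hv1 : P0.1 v = 1 := by
      rw [← hC₀]
      exact val_algebraMap P0 fun e => hne (by rw [← hC₀, e]; simp)
    rw [Valuation.map_sub_eq_of_lt_left _ (by rw [hv1]; exact hp), hv1, ← exp_zero, exp_le_exp] at h1
    omega
  funext i
  obtain ⟨P, hP⟩ := exists_root_place (cc i)
  have h1 := (hroot P _ (hcc i) hP).2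
  rw [hvz, zero_sub, Valuation.map_neg] at h1
  have ht : P.1 ((RatFunc.X : RatFunc k) - RatFunc.C (cc i)) = exp (-1 : ℤ) := by
    rw [val_eq_exp P (sub_C_ne_zero _), ord_sub_C,
      if_neg (not_lt.mpr ((val_le_one_iff P RatFunc.X_ne_zero).mp (val_X_le_of_lt hP))), if_pos hP]
  exact eq_zero_of_sum_pow_le P ht _ g jj
    (fun a ha b hb e => hinj a b ((Finset.mem_filter.mp ha).2.trans (Finset.mem_filter.mp hb).2.symm) e)
    (fun a ha => by
      have := hjj a
      rw [(Finset.mem_filter.mp ha).2] at this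
      omega) h1 i (Finset.mem_filter.mpr ⟨Finset.mem_univ _, rfl⟩)

end Groth.Agent.FFLib
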