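import Groth.Agent.FFLib.Quad.FormsAS

/-! Linear factors and independence by dominant poles. -/

set_option linter.unusedSectionVars false
set_option linter.style.haveILetI false

namespace Groth.Agent.FFLib

open FunFld WithZero Polynomial

universe u v

variable {k : Type u} [Field k]

theorem linearIndependent_of_dominant {K : Type v} [Field K] [Algebra k K] {J : Type*} (f : J → K)
    (h : ∀ S : Finset J, S.Nonempty → ∃ i ∈ S, ∃ P : Place k K, ∀ j ∈ S, j ≠ i → P.1 (f j) < P.1 (f i))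
    (hne : ∀ i, f i ≠ 0) : LinearIndependent k f := by
  classical
  rw [linearIndependent_iff']
  intro s g hsum i hi
  by_contra hgi
  obtain ⟨l, hl, P, hP⟩ := h (s.filter fun j => g j ≠ 0) ⟨i, Finset.mem_filter.mpr ⟨hi, hgi⟩⟩
  obtain ⟨hls, hgl⟩ := Finset.mem_filter.mp hl
  have hv : ∀ j, g j ≠ 0 → P.1 (g j • f j) = P.1 (f j) := fun j hj => by
    rw [Algebra.smul_def, map_mul, val_algebraMap P hj, one_mul]
  rw [← Finset.add_sum_erase s (fun j => g j • f j) hls, add_eq_zero_iff_eq_neg] at hsum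
  have hlt : P.1 (∑ j ∈ s.erase l, g j • f j) < P.1 (f l) := by
    refine P.1.map_sum_lt (val_ne_zero P (hne l)) fun j hj => ?_
    obtain ⟨hjl, hjs⟩ := Finset.mem_erase.mp hj
    by_cases hgj : g j = 0
    · rw [hgj, zero_smul, map_zero]; exact zero_lt_iff.mpr (val_ne_zero P (hne l))
    · rw [hv j hgj]; exact hP j (Finset.mem_filter.mpr ⟨hjs, hgj⟩) hjl
  rw [← Valuation.map_neg, ← hsum, hv l hgl] at hlt
  exact lt_irrefl _ hlt

theorem sub_C_ne_zero (β : k) : (RatFunc.X : RatFunc k) - RatFunc.C β ≠ 0 := by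
  rw [← RatFunc.algebraMap_X, ← RatFunc.algebraMap_C, ← map_sub]
  exact RatFunc.algebraMap_ne_zero (X_sub_C_ne_zero β)

theorem C_eq_algebraMap (β : k) : RatFunc.C β = algebraMap k (RatFunc k) β := by
  rw [RatFunc.algebraMap_eq_C]

theorem val_C_le (P : Place k (RatFunc k)) (β : k) : P.1 (RatFunc.C β) ≤ 1 := by
  rw [C_eq_algebraMap]; exact P.2.1 β

theorem val_X_le_of_lt {P : Place k (RatFunc k)} {β : k}
    (h : P.1 ((RatFunc.X : RatFunc k) - RatFunc.C β) < 1) : P.1 (RatFunc.X : RatFunc k) ≤ 1 := by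
  rw [show (RatFunc.X : RatFunc k) = (RatFunc.X - RatFunc.C β) + RatFunc.C β by ring]
  exact (P.1.map_add _ _).trans (max_le h.le (val_C_le P β))

theorem root_unique {P : Place k (RatFunc k)} {β γ : k}
    (h : P.1 ((RatFunc.X : RatFunc k) - RatFunc.C β) < 1) (h' : P.1 ((RatFunc.X : RatFunc k) - RatFunc.C γ) < 1) :
    β = γ := by
  by_contra hne
  have h1 : P.1 (algebraMap k (RatFunc k) (γ - β)) < 1 := by
    rw [map_sub, ← C_eq_algebraMap, ← C_eq_algebraMap,
      show RatFunc.C γ - RatFunc.C β = (RatFunc.X - RatFunc.C β) - (RatFunc.X - RatFunc.C γ) by ring]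
    exact (P.1.map_sub _ _).trans_lt (max_lt h h')
  rw [val_algebraMap P (sub_ne_zero.mpr (Ne.symm hne))] at h1
  exact lt_irrefl _ h1

/-- The order of a linear factor. -/
theorem ord_sub_C (P : Place k (RatFunc k)) (β : k) :
    P.ord ((RatFunc.X : RatFunc k) - RatFunc.C β) =
      if P.ord (RatFunc.X : RatFunc k) < 0 then -1
      else if P.1 ((RatFunc.X : RatFunc k) - RatFunc.C β) < 1 then 1 else 0 := by
  have hι : (RatFunc.X : RatFunc k) - RatFunc.C β = algebraMap (Polynomial k) (RatFunc k) (X - C β) := by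
    rw [map_sub, RatFunc.algebraMap_X, RatFunc.algebraMap_C]
  by_cases hX : P.ord (RatFunc.X : RatFunc k) < 0
  · rw [if_pos hX, hι, (ratFunc_infinity P hX).2.2 _ (X_sub_C_ne_zero β), natDegree_X_sub_C]
    norm_num
  · rw [if_neg hX]
    by_cases hlt : P.1 ((RatFunc.X : RatFunc k) - RatFunc.C β) < 1
    · rw [if_pos hlt]
      rcases ratFunc_squarefree P (not_lt.mp hX) (irreducible_X_sub_C β).squarefree with h | h
      · rw [hι, val_eq_exp P (RatFunc.algebraMap_ne_zero (X_sub_C_ne_zero β)), h, neg_zero, exp_zero] at hlt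
        exact absurd hlt (lt_irrefl _)
      · rw [hι]; exact h
    · rw [if_neg hlt]
      have h1 := ratPoly_le_one P ((val_le_one_iff P RatFunc.X_ne_zero).mpr (not_lt.mp hX)) (X - C β)
      rw [← hι] at h1
      exact ord_of_val_eq P (by rw [neg_zero, exp_zero]; exact le_antisymm h1 (not_lt.mp hlt))

theorem exists_root_place (β : k) :
    ∃ P : Place k (RatFunc k), P.1 ((RatFunc.X : RatFunc k) - RatFunc.C β) < 1 := by
  refine exists_place_zero (isFF_ratFunc k) fun halg => (RatFunc.transcendental_X (K := k)) ?_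
  have := halg.add (isAlgebraic_algebraMap β)
  rwa [← C_eq_algebraMap, sub_add_cancel] at this

section Split

variable (B : Finset k) (d : k → ℕ) (hd : ∀ β ∈ B, Odd (d β)) (f : RatFunc k)
  (hpole : ∀ (p : Place k (RatFunc k)) (β : k), β ∈ B →
    p.1 ((RatFunc.X : RatFunc k) - RatFunc.C β) < 1 → p.ord f = -(d β : ℤ))
  (hint : ∀ p : Place k (RatFunc k), (∀ β ∈ B, 1 ≤ p.1 ((RatFunc.X : RatFunc k) - RatFunc.C β)) → p.1 f ≤ 1)

include hd hpole hint

theorem split_ord_neg {P : Place k (RatFunc k)} (hneg : P.ord f < 0) :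
    ∃ β ∈ B, P.1 ((RatFunc.X : RatFunc k) - RatFunc.C β) < 1 := by
  by_contra! hcon
  have h1 := hint P hcon
  rcases eq_or_ne f 0 with rfl | hf0
  · simp at hneg
  · exact (not_le.mpr hneg) ((val_le_one_iff P hf0).mp h1)

theorem split_pole (P : Place k (RatFunc k)) :
    (∀ β ∈ B, P.1 ((RatFunc.X : RatFunc k) - RatFunc.C β) < 1 →
      (if P.ord f < 0 then (1 - P.ord f) / 2 else 0) = (((d β + 1) / 2 : ℕ) : ℤ)) ∧
    ((∀ β ∈ B, 1 ≤ P.1 ((RatFunc.X : RatFunc k) - RatFunc.C β)) →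
      (if P.ord f < 0 then (1 - P.ord f) / 2 else 0) = 0) := by
  refine ⟨fun β hβ hlt => ?_, fun hall => if_neg fun hneg => ?_⟩
  · rw [hpole P β hβ hlt]
    obtain ⟨j, hj⟩ := hd β hβ
    rw [if_pos (by omega)]
    omega
  · obtain ⟨β, hβ, hlt⟩ := split_ord_neg B d hd f hpole hint hneg
    exact (hall β hβ).not_gt hlt

theorem split_odd (P : Place k (RatFunc k)) (hneg : P.ord f < 0) : Odd (P.ord f) := by
  obtain ⟨β, hβ, hlt⟩ := split_ord_neg B d hd f hpole hint hneg
  obtain ⟨j, hj⟩ := hd β hβ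
  exact ⟨-(j : ℤ) - 1, by rw [hpole P β hβ hlt, hj]; push_cast; ring⟩

theorem split_genus [CharP k 2] [PerfectField k] {K : Type v} [Field K] [Algebra k K] [Algebra (RatFunc k) K]
    [IsScalarTower k (RatFunc k) K] (hdeg : Module.finrank (RatFunc k) K = 2) {y : K}
    (heq : y ^ 2 + y = algebraMap (RatFunc k) K f) (hy : y ∉ Set.range (algebraMap (RatFunc k) K))
    (hK : IsFunctionField k K) :
    genus k K + 1 = ∑ β ∈ B, (d β + 1) / 2 := by
  classical
  let q : Polynomial k := ∏ β ∈ B, (X - C β) ^ ((d β + 1) / 2)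
  have hfac : ∀ β ∈ B, ((X : Polynomial k) - C β) ^ ((d β + 1) / 2) ≠ 0 := fun β _ =>
    pow_ne_zero _ (X_sub_C_ne_zero β)
  have hq0 : q ≠ 0 := Finset.prod_ne_zero_iff.mpr hfac
  have hdeg' : q.natDegree = ∑ β ∈ B, (d β + 1) / 2 := by
    rw [natDegree_prod _ _ hfac]
    exact Finset.sum_congr rfl fun β _ => by rw [natDegree_pow, natDegree_X_sub_C, mul_one]
  have hq : ∀ P : Place k (RatFunc k), 0 ≤ P.ord (RatFunc.X : RatFunc k) →
      P.ord (algebraMap (Polynomial k) (RatFunc k) q) = if P.ord f < 0 then (1 - P.ord f) / 2 else 0 := by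
    intro P hP
    have hprod : ∀ S ⊆ B, P.ord (algebraMap (Polynomial k) (RatFunc k) (∏ β ∈ S, (X - C β) ^ ((d β + 1) / 2))) =
        ∑ β ∈ S, if P.1 ((RatFunc.X : RatFunc k) - RatFunc.C β) < 1 then (((d β + 1) / 2 : ℕ) : ℤ) else 0 := by
      intro S hS
      induction S using Finset.induction_on with
      | empty => simp
      | insert a S ha ih =>
        rw [Finset.prod_insert ha, map_mul, ord_mul P (RatFunc.algebraMap_ne_zero (hfac a (hS (Finset.mem_insert_self a S))))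
          (RatFunc.algebraMap_ne_zero (Finset.prod_ne_zero_iff.mpr fun b hb => hfac b (hS (Finset.mem_insert_of_mem hb)))),
          Finset.sum_insert ha, ih fun b hb => hS (Finset.mem_insert_of_mem hb), map_pow, map_sub,
          RatFunc.algebraMap_X, RatFunc.algebraMap_C, ord_pow, ord_sub_C, if_neg (not_lt.mpr hP)]
        split_ifs <;> simp
    rw [hprod B subset_rfl]
    obtain ⟨h1, h2⟩ := split_pole B d hd f hpole hint P
    by_cases hex : ∃ β ∈ B, P.1 ((RatFunc.X : RatFunc k) - RatFunc.C β) < 1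
    · obtain ⟨β, hβ, hlt⟩ := hex
      rw [h1 β hβ hlt, Finset.sum_eq_single β (fun c _ hne => if_neg fun h => hne (root_unique h hlt))
        (fun h => absurd hβ h), if_pos hlt]
    · push Not at hex
      rw [h2 hex]
      exact Finset.sum_eq_zero fun c hc => if_neg (hex c hc).not_gt
  obtain ⟨Pinf, hinf, -, -⟩ := exists_infinity k
  have h := as_genus hdeg heq (split_odd B d hd f hpole hint) hy hq0 hq hK (P := Pinf) (by omega)
  rw [(split_pole B d hd f hpole hint Pinf).2 fun β _ => not_lt.mp fun hlt => by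
    have h1 := (val_le_one_iff Pinf RatFunc.X_ne_zero).mp (val_X_le_of_lt hlt)
    omega, hdeg'] at h
  omega

theorem split_card (h0 : (0 : k) ∈ B) :
    Finite {a : ↥B × ℕ // 1 ≤ a.2 ∧ 2 * a.2 + 1 ≤ d (a.1 : k)} ∧
    Nat.card {a : ↥B × ℕ // 1 ≤ a.2 ∧ 2 * a.2 + 1 ≤ d (a.1 : k)} + Nat.card {b : ↥B // (b : k) ≠ 0} + 1 =
      ∑ β ∈ B, (d β + 1) / 2 := by
  classical
  let e : {a : ↥B × ℕ // 1 ≤ a.2 ∧ 2 * a.2 + 1 ≤ d (a.1 : k)} ≃ Σ β : ↥B, Fin ((d (β : k) - 1) / 2) :=
    { toFun := fun a => ⟨a.1.1, ⟨a.1.2 - 1, by have := a.2; omega⟩⟩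
      invFun := fun c => ⟨(c.1, c.2.1 + 1), by have := c.2.2; dsimp only; omega⟩
      left_inv := fun a => Subtype.ext (Prod.ext rfl (by have := a.2; dsimp only; omega))
      right_inv := fun c => rfl }
  haveI := Finite.of_equiv _ e.symm
  refine ⟨inferInstance, ?_⟩
  have hb : Nat.card {b : ↥B // (b : k) ≠ 0} + 1 = B.card := by
    rw [Nat.card_eq_fintype_card, Fintype.card_subtype_compl,
      Fintype.card_coe, (Fintype.card_eq_one_iff (α := {b : ↥B // (b : k) = 0})).mpr
        ⟨⟨⟨0, h0⟩, rfl⟩, fun b => Subtype.ext (Subtype.ext b.2)⟩]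
    have := Finset.card_pos.mpr ⟨0, h0⟩
    omega
  rw [add_assoc, hb, Nat.card_congr e, Nat.card_eq_fintype_card, Fintype.card_sigma, Finset.card_eq_sum_ones]
  simp only [Fintype.card_fin]
  rw [Finset.univ_eq_attach, Finset.sum_attach B (fun β => (d β - 1) / 2), ← Finset.sum_add_distrib]
  exact Finset.sum_congr rfl fun β hβ => by
    obtain ⟨j, hj⟩ := hd β hβ
    omega

end Split

end Groth.Agent.FFLib
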