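import Groth.Agent.FFLib.Quad.Local

/-! Quadratic extensions of the rational function field. -/

set_option linter.unusedSectionVars false
set_option linter.style.haveILetI false

namespace Groth.Agent.FFLib

open FunFld WithZero

variable {k : Type*} [Field k]

variable (k) in
theorem isFunctionField_ratFunc : IsFunctionField k (RatFunc k) := by
  refine ⟨isFF_ratFunc k, fun z hz => ?_⟩
  have hint : IsIntegral (Polynomial k) z := hz.isIntegral.tower_top
  obtain ⟨p, rfl⟩ := IsIntegrallyClosed.algebraMap_eq_of_integral hint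
  have hp : IsAlgebraic k p := (isAlgebraic_algHom_iff (IsScalarTower.toAlgHom k (Polynomial k) (RatFunc k))
    (RatFunc.algebraMap_injective k)).mp hz
  have hdeg : p.degree ≤ 0 := by
    by_contra h
    obtain ⟨q, hq0, hq⟩ := hp
    have hq' : q.comp p = 0 := by rwa [Polynomial.comp, ← Polynomial.algebraMap_eq]
    rcases Polynomial.comp_eq_zero_iff.mp hq' with h1 | ⟨-, h2⟩
    · exact hq0 h1
    · exact h (h2.symm ▸ Polynomial.degree_C_le)
  refine ⟨p.coeff 0, ?_⟩
  conv_rhs => rw [Polynomial.eq_C_of_degree_le_zero hdeg]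
  exact IsScalarTower.algebraMap_apply k (Polynomial k) (RatFunc k) _

variable (k) in
theorem exists_infinity : ∃ P : Place k (RatFunc k), P.ord (RatFunc.X : RatFunc k) = -1 ∧ P.deg = 1 ∧
    ∀ Q : Place k (RatFunc k), Q ≠ P → 0 ≤ Q.ord (RatFunc.X : RatFunc k) := by
  obtain ⟨-, P, h1, h2, h3⟩ := genus_eq_zero_of_adjoin (isFunctionField_ratFunc k) RatFunc.adjoin_X
  exact ⟨P, h2, h1, h3⟩

variable (k) in
theorem genus_ratFunc : genus k (RatFunc k) = 0 :=
  (genus_eq_zero_of_adjoin (isFunctionField_ratFunc k) RatFunc.adjoin_X).1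

/-- `y² = f`, `f` squarefree. -/
theorem hyperelliptic_data {K : Type*} [Field K] [Algebra k K] [Algebra (RatFunc k) K] [IsScalarTower k (RatFunc k) K]
    (hdeg : Module.finrank (RatFunc k) K = 2) (h2 : ringChar k ≠ 2) {y : K} {f : Polynomial k} (hf : Squarefree f)
    (hd : 1 ≤ f.natDegree)
    (heq : y ^ 2 = algebraMap (RatFunc k) K (algebraMap (Polynomial k) (RatFunc k) f)) :
    y ∉ Set.range (algebraMap (RatFunc k) K) ∧
    ∃ (P : Place k (RatFunc k)), P.ord (RatFunc.X : RatFunc k) = -1 ∧ P.deg = 1 ∧
      (∀ Q : Place k (RatFunc k), Q ≠ P → 0 ≤ Q.ord (RatFunc.X : RatFunc k)) ∧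
      QuadLoc k (RatFunc k) K y (Finsupp.single P (((f.natDegree + 1) / 2 : ℕ) : ℤ)) := by
  classical
  have hF := isFF_ratFunc k
  have hf0 : algebraMap (Polynomial k) (RatFunc k) f ≠ 0 := by simpa using hf.ne_zero
  have hy : y ∉ Set.range (algebraMap (RatFunc k) K) := by
    rintro ⟨r, rfl⟩
    rw [← map_pow] at heq
    have hr := (algebraMap (RatFunc k) K).injective heq
    have hint : IsIntegral (Polynomial k) r := IsIntegral.of_pow two_pos (hr ▸ isIntegral_algebraMap)
    obtain ⟨p, rfl⟩ := IsIntegrallyClosed.algebraMap_eq_of_integral hint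
    rw [← map_pow] at hr
    have hp := RatFunc.algebraMap_injective k hr
    have hu : IsUnit p := hf p ⟨1, by rw [← hp]; ring⟩
    rw [← hp, Polynomial.natDegree_pow, Polynomial.natDegree_eq_zero_of_isUnit hu] at hd
    omega
  obtain ⟨P, h1, hP, hfin⟩ := exists_infinity k
  refine ⟨hy, P, h1, hP, hfin, quadLoc_sq hdeg hy hF ?_ heq fun Q => ?_⟩
  · have h2' : (2 : k) ≠ 0 := by
      intro h
      refine h2 ?_
      have hd2 : ringChar k ∣ 2 := ringChar.dvd (by exact_mod_cast h)
      rcases (Nat.dvd_prime Nat.prime_two).mp hd2 with h' | h'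
      · exact absurd h' (CharP.ringChar_ne_one)
      · exact h'
    exact h2'
  · rcases eq_or_ne Q P with rfl | hQ
    · obtain ⟨-, -, hord⟩ := ratFunc_infinity Q (by omega)
      rw [Finsupp.single_eq_same, hord f hf.ne_zero]
      omega
    · rw [Finsupp.single_eq_of_ne hQ]
      rcases ratFunc_squarefree Q (hfin Q hQ) hf with h | h <;> rw [h] <;> norm_num

/-- A `RatFunc k`-structure from generators `x, y` with `y² = f(x)`. -/
theorem exists_ratFunc_structure {K : Type*} [Field K] [Algebra k K] {x y : K} (hx : Transcendental k x)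
    (hxy : IntermediateField.adjoin k ({x, y} : Set K) = ⊤) {f : Polynomial k} (hf : Squarefree f)
    (hd : 1 ≤ f.natDegree) (heq : y ^ 2 = Polynomial.aeval x f) :
    ∃ (_ : Algebra (RatFunc k) K), IsScalarTower k (RatFunc k) K ∧ Module.finrank (RatFunc k) K = 2 ∧
      y ^ 2 = algebraMap (RatFunc k) K (algebraMap (Polynomial k) (RatFunc k) f) := by
  classical
  let e := RatFunc.algEquivOfTranscendental x hx
  letI alg : Algebra (RatFunc k) K := (((IntermediateField.adjoin k {x}).val).comp e.toAlgHom).toRingHom.toAlgebra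
  haveI htw : IsScalarTower k (RatFunc k) K := IsScalarTower.of_algebraMap_eq fun c => by
    show algebraMap k K c = ((IntermediateField.adjoin k {x}).val.comp e.toAlgHom) (algebraMap k (RatFunc k) c)
    rw [AlgHom.commutes]
  have hX : algebraMap (RatFunc k) K RatFunc.X = x := by
    show ((e RatFunc.X : IntermediateField.adjoin k {x}) : K) = x
    simp [e]
  have hpoly : ∀ p : Polynomial k, algebraMap (RatFunc k) K (algebraMap (Polynomial k) (RatFunc k) p) = Polynomial.aeval x p := fun p => by
    rw [← hX, ← RatFunc.algebraMap_X, Polynomial.aeval_algebraMap_apply, Polynomial.aeval_algebraMap_apply,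
      Polynomial.aeval_X_left_apply]
  have hy2 : y ^ 2 = algebraMap (RatFunc k) K (algebraMap (Polynomial k) (RatFunc k) f) := by rw [hpoly, heq]
  have hnot : y ∉ Set.range (algebraMap (RatFunc k) K) := by
    rintro ⟨r, rfl⟩
    rw [← map_pow] at hy2
    have hr := (algebraMap (RatFunc k) K).injective hy2
    have hint : IsIntegral (Polynomial k) r := IsIntegral.of_pow two_pos (hr ▸ isIntegral_algebraMap)
    obtain ⟨p, rfl⟩ := IsIntegrallyClosed.algebraMap_eq_of_integral hint
    rw [← map_pow] at hr
    have hp := RatFunc.algebraMap_injective k hr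
    have hu : IsUnit p := hf p ⟨1, by rw [← hp]; ring⟩
    rw [← hp, Polynomial.natDegree_pow, Polynomial.natDegree_eq_zero_of_isUnit hu] at hd
    omega
  have hint : IsIntegral (RatFunc k) y := IsIntegral.of_pow two_pos (hy2 ▸ isIntegral_algebraMap)
  have htop : IntermediateField.adjoin (RatFunc k) ({y} : Set K) = ⊤ := by
    refine eq_top_iff.mpr fun z _ => ?_
    have hle : IntermediateField.adjoin k ({x, y} : Set K) ≤
        (IntermediateField.adjoin (RatFunc k) ({y} : Set K)).restrictScalars k := by
      rw [IntermediateField.adjoin_le_iff]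
      rintro w (rfl | rfl)
      · rw [← hX]
        exact IntermediateField.algebraMap_mem (IntermediateField.adjoin (RatFunc k) ({y} : Set K)) RatFunc.X
      · exact IntermediateField.mem_adjoin_simple_self (RatFunc k) w
    exact hle (hxy ▸ IntermediateField.mem_top)
  refine ⟨alg, htw, ?_, hy2⟩
  have hfr : Module.finrank (RatFunc k) K = (minpoly (RatFunc k) y).natDegree := by
    rw [← IntermediateField.adjoin.finrank hint, htop]
    exact (IntermediateField.finrank_top' (F := RatFunc k) (E := K)).symm
  rw [hfr]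
  have hmon : (Polynomial.X ^ 2 - Polynomial.C (algebraMap (Polynomial k) (RatFunc k) f)).Monic :=
    Polynomial.monic_X_pow_sub_C _ two_ne_zero
  refine le_antisymm ?_ ((minpoly.two_le_natDegree_iff hint).mpr hnot)
  refine (Polynomial.natDegree_le_of_dvd (minpoly.dvd _ y (by simp [hy2])) hmon.ne_zero).trans ?_
  rw [Polynomial.natDegree_X_pow_sub_C]

end Groth.Agent.FFLib
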