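import Groth.Agent.FFLib.Quad.Rat

/-! Reduction of Artin–Schreier data to odd pole orders. -/

set_option linter.unusedSectionVars false
set_option linter.style.haveILetI false

namespace Groth.Agent.FFLib

open FunFld WithZero

variable {k F : Type*} [Field k] [Field F] [Algebra k F]

theorem exists_square (κ : Type*) [Field κ] [Algebra k κ] [PerfectField k] [CharP k 2]
    (hfin : FiniteDimensional k κ) (r : κ) : ∃ c, c * c = r := by
  haveI := hfin
  haveI : PerfectField κ := Algebra.IsAlgebraic.perfectField (K := k) (L := κ)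
  haveI : CharP κ 2 := charP_of_injective_algebraMap (algebraMap k κ).injective 2
  haveI : ExpChar κ 2 := ExpChar.prime Nat.prime_two
  haveI := PerfectField.toPerfectRing (K := κ) 2
  obtain ⟨c, hc⟩ := surjective_frobenius κ 2 r
  exact ⟨c, by rw [← hc, frobenius_def]; ring⟩

/-- In genus zero an even pole can be lowered. -/
theorem exists_lower [PerfectField k] [CharP k 2] (hF : IsFunctionField k F) (hg : genus k F = 0) (f : F)
    (P : Place k F) {m : ℕ} (hm : 1 ≤ m) (hord : P.ord f = -(2 * (m : ℤ))) :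
    ∃ h : F, P.1 (f + h ^ 2 + h) ≤ exp (2 * (m : ℤ) - 1) ∧ ∀ Q, Q ≠ P → Q.1 h ≤ 1 := by
  classical
  haveI := residue_finite hF.1 P
  have hf0 : f ≠ 0 := fun e => by rw [e] at hord; simp at hord; omega
  obtain ⟨u, hu0, hu⟩ := exists_val_eq_exp P (-(m : ℤ))
  let A : Divisor k F := Finsupp.single P (m : ℤ)
  let A' : Divisor k F := Finsupp.single P ((m : ℤ) - 1)
  haveI := L_finite hF.1 A
  have hmem : ∀ x : L A, P.1 (x : F) ≤ exp (m : ℤ) := fun x => (x.2 P).trans_eq (by simp [A])
  let g : L A →ₗ[k] Res P := (lead P (m : ℤ) u hu).comp ((L A).subtype.codRestrict (ball P (m : ℤ)) hmem)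
  have hle : L A' ≤ L A := L_mono (Finsupp.single_le_single.mpr (by omega))
  have hker : LinearMap.ker g = (L A').comap (L A).subtype := by
    ext x
    refine (lead_eq_zero P (m : ℤ) hu _).trans ⟨fun h Q => ?_, fun h => (h P).trans_eq (by simp [A'])⟩
    rcases eq_or_ne Q P with rfl | hQ
    · refine (show Q.1 (x : F) ≤ exp ((m : ℤ) - 1) from h).trans_eq ?_
      simp [A']
    · exact (x.2 Q).trans_eq (by simp [A, A', Finsupp.single_eq_of_ne hQ])
  have hsurj : Function.Surjective g := by
    rw [← LinearMap.range_eq_top]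
    refine Submodule.eq_top_of_finrank_eq ?_
    have h1 := LinearMap.finrank_range_add_finrank_ker g
    rw [hker, (Submodule.comapSubtypeEquivOfLe hle).finrank_eq, ← ell, ← ell] at h1
    have h2 := ell_of_deg_gt hF (D := A) (by
      rw [Divisor.deg_single, hg]; push_cast; nlinarith [deg_pos hF.1 P])
    have h3 := ell_of_deg_gt hF (D := A') (by
      rw [Divisor.deg_single, hg]; push_cast; nlinarith [deg_pos hF.1 P])
    rw [Divisor.deg_single, hg] at h2 h3
    have hm' : ((m : ℤ) - 1) * P.deg = (m : ℤ) * P.deg - P.deg := by ring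
    rw [hm'] at h3
    show _ = P.deg
    omega
  have hfu : P.1 (f * (u * u)) ≤ 1 := by
    rw [map_mul, map_mul, hu, val_eq_exp P hf0, hord, ← exp_add, ← exp_add, ← exp_zero, exp_le_exp]
    omega
  obtain ⟨c, hc⟩ := exists_square (k := k) (Res P) (residue_finite hF.1 P) (IsLocalRing.residue P.O ⟨f * (u * u), hfu⟩)
  obtain ⟨x, hx⟩ := hsurj c
  refine ⟨x, ?_, fun Q hQ => (x.2 Q).trans_eq (by simp [A, Finsupp.single_eq_of_ne hQ])⟩
  have hxu : P.1 ((x : F) * u) ≤ 1 := by
    rw [map_mul, hu]
    refine (mul_le_mul' (hmem x) le_rfl).trans_eq ?_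
    rw [← exp_add, add_neg_cancel, exp_zero]
  have hsq : P.1 ((f + (x : F) ^ 2) * (u * u)) < 1 := by
    have h2 : (2 : F) = 0 := by
      rw [← map_ofNat (algebraMap k F) 2, show (2 : k) = 0 from by exact_mod_cast CharP.cast_eq_zero k 2, map_zero]
    have hres : IsLocalRing.residue P.O ⟨f * (u * u), hfu⟩ =
        IsLocalRing.residue P.O (⟨(x : F) * u, hxu⟩ * ⟨(x : F) * u, hxu⟩) := by
      rw [map_mul, ← hc, ← hx]
      rfl
    rw [← sub_eq_zero, ← map_sub, residue_eq_zero] at hres
    have e : (f + (x : F) ^ 2) * (u * u) = f * (u * u) - (x : F) * u * ((x : F) * u) := by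
      linear_combination ((x : F) * u * ((x : F) * u)) * h2
    rw [e]
    exact hres
  have h1 : P.1 (f + (x : F) ^ 2) ≤ exp (2 * (m : ℤ) - 1) := by
    rw [← lt_exp_iff_le_exp_pred]
    rw [map_mul, map_mul, hu, ← exp_add, exp_add, ← exp_add, show -(m : ℤ) + -(m : ℤ) = -(2 * (m : ℤ)) by ring,
      exp_neg, ← div_eq_mul_inv, div_lt_one₀ (zero_lt_iff.mpr exp_ne_zero)] at hsq
    exact hsq
  exact (P.1.map_add _ _).trans (max_le h1 ((hmem x).trans (exp_le_exp.mpr (by omega))))

/-- All poles can be made odd. -/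
theorem exists_odd_poles [PerfectField k] [CharP k 2] (hF : IsFunctionField k F) (hg : genus k F = 0) (f : F) :
    ∃ h : F, ∀ P : Place k F, P.ord (f + h ^ 2 + h) < 0 → Odd (P.ord (f + h ^ 2 + h)) := by
  classical
  suffices ∀ (N : ℕ) (f : F), (poles f : Divisor k F).deg ≤ N → ∃ h : F, ∀ P : Place k F,
      P.ord (f + h ^ 2 + h) < 0 → Odd (P.ord (f + h ^ 2 + h)) from
    this (poles f : Divisor k F).deg.toNat f (Int.self_le_toNat _)
  have h2 : (2 : F) = 0 := by
    rw [← map_ofNat (algebraMap k F) 2, show (2 : k) = 0 from by exact_mod_cast CharP.cast_eq_zero k 2, map_zero]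
  intro N
  induction N using Nat.strong_induction_on with
  | _ N ih =>
    intro f hN
    by_cases hgood : ∀ P : Place k F, P.ord f < 0 → Odd (P.ord f)
    · exact ⟨0, by simpa using hgood⟩
    push Not at hgood
    obtain ⟨P, hneg, heven⟩ := hgood
    obtain ⟨j, hj⟩ := Int.not_odd_iff_even.mp heven
    obtain ⟨m, hm, hord⟩ : ∃ m : ℕ, 1 ≤ m ∧ P.ord f = -(2 * (m : ℤ)) := ⟨(-j).toNat, by omega, by omega⟩
    obtain ⟨h, hP, hoff⟩ := exists_lower hF hg f P hm hord
    set f' := f + h ^ 2 + h
    have hle : (poles f' : Divisor k F) ≤ poles f := fun Q => by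
      rcases eq_or_ne f' 0 with e | e
      · rw [e]; simp only [poles, Finsupp.mapRange_apply, div_apply hF.1]
        simp
      have key : Q.1 f' ≤ exp ((poles f : Divisor k F) Q) := by
        rcases eq_or_ne Q P with rfl | hQ
        · refine hP.trans (exp_le_exp.mpr ?_)
          simp only [poles, Finsupp.mapRange_apply, div_apply hF.1, hord]
          omega
        · have h0 : (0 : ℤ) ≤ (poles f : Divisor k F) Q := poles_nonneg f Q
          refine (Q.1.map_add _ _).trans (max_le ((Q.1.map_add _ _).trans (max_le (val_le_exp_poles hF.1 f Q) ?_)) ?_)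
          · rw [map_pow]; exact (pow_le_one' (hoff Q hQ) 2).trans (by rw [← exp_zero, exp_le_exp]; exact h0)
          · exact (hoff Q hQ).trans (by rw [← exp_zero, exp_le_exp]; exact h0)
      rw [val_le_exp_iff Q e] at key
      have h0 : (0 : ℤ) ≤ (poles f : Divisor k F) Q := poles_nonneg f Q
      simp only [poles, Finsupp.mapRange_apply, div_apply hF.1] at key h0 ⊢
      omega
    have hlt : (poles f' : Divisor k F).deg < (poles f : Divisor k F).deg := by
      by_contra hge
      have := congrArg (fun D : Divisor k F => D P) (deg_eq_of_le hF.1 hle (not_lt.mp hge))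
      simp only [poles, Finsupp.mapRange_apply, div_apply hF.1, hord] at this
      rcases eq_or_ne f' 0 with e | e
      · rw [e] at this; simp at this; omega
      · rw [val_le_exp_iff P e] at hP
        omega
    have hnn : (0 : ℤ) ≤ (poles f' : Divisor k F).deg := Divisor.deg_nonneg (poles_nonneg f')
    obtain ⟨h', hh'⟩ := ih (poles f' : Divisor k F).deg.toNat (by omega) f' (Int.self_le_toNat _)
    refine ⟨h + h', fun Q => ?_⟩
    have e : f + (h + h') ^ 2 + (h + h') = f' + h' ^ 2 + h' := by
      simp only [f']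
      linear_combination (h * h') * h2
    rw [e]
    exact hh' Q

end Groth.Agent.FFLib
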